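import Cfsg.Agent.Lib.CosetEnum.TC
set_option autoImplicit false
set_option maxRecDepth 100000
namespace H49.E32
open H54 (Tr force band)
open H18.TC
noncomputable def T_0 : Tr := (.node (nat_lit 0) (.leaf (nat_lit 0x180002bb3164140000003952571fb00c0003561bc29701800017d2d82190000001da13e0fd0180000be19b11c00000015c0dd07f00000005f03f09e)) (.node (nat_lit 1) (.leaf (nat_lit 0xc0006cb5b564d01800043450e47500000054e74c4b60180003b760d56e00000070f4513f800c0005d03794910180002f833a4d20180002393d327a)) (.leaf (nat_lit 0x9088e88aa00000088986982b0180007ac7ef8c801800066d6b08490180007327ca76f0180005f368b6300180004f153259300c00080a6f478c))))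
noncomputable def J_0 : Tr := (.node (nat_lit 0) (.leaf (nat_lit 0x4004000000000000000100100000020020000004004000000000000000300100040040000000000000001001000000200c000)) (.node (nat_lit 1) (.leaf (nat_lit 0x20020000004004000001000000000100100040040000010000000001001000000200200000040040040000004004000001)) (.leaf (nat_lit 0x30010000000003001000400400400000040040040000004004000001000400400000100040040060000000002002000))))
noncomputable def F_0 : Tr := (.node (nat_lit 0) (.leaf (nat_lit 0xad2f683d93929313b9a55910610c01)) (.node (nat_lit 1) (.leaf (nat_lit 0xbda0fad1ab54672718ac4a06709040)) (.leaf (nat_lit 0xbda726b1d5a2e2883ce62292228460))))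
noncomputable def T : Tr := T_0
noncomputable def J : Tr := J_0
noncomputable def F : Tr := F_0
noncomputable def row (u : ℕ) : ℕ := Nat.land (Nat.shiftRight (force (Nat.shiftRight u (nat_lit 3)) T.get) (Nat.mul (Nat.land u (nat_lit 7)) (nat_lit 60))) (nat_lit 0xfffffffffffffff)
noncomputable def jrow (u : ℕ) : ℕ := Nat.land (Nat.shiftRight (force (Nat.shiftRight u (nat_lit 3)) J.get) (Nat.mul (Nat.land u (nat_lit 7)) (nat_lit 52))) (nat_lit 0xfffffffffffff)
noncomputable def fget (k fx : ℕ) : ℕ := F.get (Nat.add k fx)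
noncomputable def wt0 : LT := (.node (nat_lit 0) (.leaf 5 0 [nat_lit 24, nat_lit 0, nat_lit 24, nat_lit 0, nat_lit 24])
(.leaf 0 0 []))
noncomputable def wt1 : LT := (.node (nat_lit 1) (.node (nat_lit 0) (.leaf 5 5 [nat_lit 0, nat_lit 24, nat_lit 0, nat_lit 24, nat_lit 0])
(.leaf 3 0 [nat_lit 24, nat_lit 24, nat_lit 24, nat_lit 24, nat_lit 24, nat_lit 24]))
(.node (nat_lit 2) (.leaf 7 13 [nat_lit 24, nat_lit 24, nat_lit 0, nat_lit 24, nat_lit 24, nat_lit 24, nat_lit 0, nat_lit 24, nat_lit 24, nat_lit 24, nat_lit 0, nat_lit 24, nat_lit 24, nat_lit 24, nat_lit 0])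
(.leaf 0 0 [])))
noncomputable def wt2 : LT := (.leaf 0 0 [])
noncomputable def wt3 : LT := (.leaf 0 0 [])
noncomputable def sl : List (ℕ × ℕ × List ℕ × List ℕ) := [(0, nat_lit 12, [], [])]
/-- the inverse column -/
noncomputable def icol (x : ℕ) : ℕ := List.getD [nat_lit 0, nat_lit 2, nat_lit 1] x x
noncomputable def inv (x : ℕ) : ℕ := Nat.mul (icol (Nat.div x (nat_lit 12))) (nat_lit 12)
def cols : List ℕ := [nat_lit 36, nat_lit 0, nat_lit 12, nat_lit 24]
noncomputable def cl : CL := (.cons (nat_lit 0) (nat_lit 0) (nat_lit 0) (nat_lit 0) wt0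
(.cons (nat_lit 12) (nat_lit 24) (nat_lit 13) (nat_lit 1) wt1
(.cons (nat_lit 24) (nat_lit 12) (nat_lit 26) (nat_lit 2) wt2
.nil)))
def rels : List (List ℕ) := [[0, 0],
[1, 1, 1, 1, 1, 1, 1],
[0, 1, 0, 1, 0, 1],
[0, 1, 1, 1, 0, 1, 1, 1, 0, 1, 1, 1, 0, 1, 1, 1]]
def subs : List (List ℕ) := [[1]]
noncomputable def chk : ℕ → Bool := rowChk row jrow fget sl cols (nat_lit 24) (nat_lit 24) (nat_lit 4095) (nat_lit 31) (nat_lit 4096) (nat_lit 36) (nat_lit 48) (nat_lit 8191) (nat_lit 6) (nat_lit 63) (nat_lit 5) (nat_lit 31) cl (nat_lit 39) wt3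
theorem p0 : allB chk 15 0 = true := by decide +kernel
theorem all_chk : AllLt chk 24 := by
  have h := AllLt.zero chk
  have h := h.step 24 p0 (by decide +kernel)
  exact h
/-- column `x` of the final table -/
noncomputable def tab (x u : ℕ) : ℕ := ft fget (nat_lit 6) (nat_lit 63) (nat_lit 5) (nat_lit 31) (Nat.mul x (nat_lit 1)) u
theorem enum {G Ω : Type*} [Group G] [MulAction G Ω] (g : ℕ → G) (ω : Ω)
    (hinv : ∀ x, g (icol x) = (g x)⁻¹) (h1 : g 3 = 1)
    (hrels : ∀ R ∈ rels, ev g R = 1) (hsubs : ∀ S ∈ subs, ev g S • ω = ω) :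
    ∃ pt : ℕ → Ω, pt 0 = ω ∧ (∀ K : Subgroup G, (∀ x, g x ∈ K) → ∀ v, ∃ k ∈ K, pt v = k • ω) ∧
      ∀ x, x < 3 → ∀ u, u < 24 → tab x u < 24 ∧ g x • pt u = pt (tab x u) :=
  sound_scaled g ω row jrow fget sl inv icol cols (nat_lit 24) (nat_lit 24) (nat_lit 4095) (nat_lit 31) (nat_lit 4096) (nat_lit 36) (nat_lit 48) (nat_lit 8191) (nat_lit 6) (nat_lit 63) (nat_lit 5) (nat_lit 31) 5 cl (nat_lit 39) wt3 rels subs 12 (nat_lit 1) 3
    (fun _ => Nat.mul_div_cancel _ (by decide)) hinv h1 hrels hsubs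
    (by decide +kernel) (by decide +kernel) all_chk
end H49.E32
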