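import Cfsg.Agent.Lib.Held.Sh3
import Cfsg.Agent.Lib.Held.E32
import Cfsg.Agent.Lib.Held.Am2
import Cfsg.Agent.Lib.GL.Basic

/-!
# `2^(1+6).L₃(2)`: the split case is the centraliser of a transvection (helper49)
-/

set_option autoImplicit false

namespace H49.He

open H54 (force sel band bor bimp force_eq band_eq_true bor_eq_true bimp_eq_true allL allL_iff
  anyL anyL_iff allLt allLt_iff tb tb_eq sel_eq cntLt cntLt_eq)
open H18.TC (ev ev_cons ev_nil tr tr_cons tr_nil Bd bd_of_orbit smul_one_coset map_ev ev_mem)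
open H95 (L3 ES)
open Subgroup

variable {G G' : Type*} [Group G] [Finite G] [Group G'] [Finite G'] {Q : Subgroup G} {z ω a : G}
  {φ : ℕ → G} {g : ℕ → G'}

theorem card_L32 {w : G} (h2 : a * a = 1) (h7 : w ^ 7 = 1) (h3 : (w * a) ^ 3 = 1)
    (h4 : (w * w * w * a) ^ 4 = 1) : Nat.card (closure {a, w} : Subgroup G) ≤ 168 := by
  obtain ⟨pt, h0, -, T⟩ := E32.enum (fun i => [a, w, w⁻¹].getD i 1) ((1 : G) : G ⧸ zpowers w)
    (fun x => by
      rcases x with _ | _ | _ | x
      · exact eq_inv_of_mul_eq_one_left h2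
      · rfl
      · exact (inv_inv w).symm
      · exact inv_one.symm) rfl
    (by simpa [E32.rels, ev_cons, pow_succ, mul_assoc] using And.intro h2 (And.intro h7 (And.intro h3 h4)))
    (fun S hS => smul_one_coset.2 (by obtain rfl := List.mem_singleton.1 hS; simp [ev_cons]))
  have k : ∀ x ∈ closure {a, w}, ∀ u < 24, ∃ v < 24, x • pt u = pt v := fun x h => by
    rw [← mem_toSubmonoid, Subgroup.closure_toSubmonoid_of_finite] at h
    induction h using Submonoid.closure_induction with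
    | mem x hx =>
      rcases hx with rfl | rfl
      exacts [fun u hu => ⟨_, T 0 (by decide) u hu⟩, fun u hu => ⟨_, T 1 (by decide) u hu⟩]
    | one => exact fun u hu => ⟨u, hu, one_smul _ _⟩
    | mul x y _ _ hx hy =>
      intro u hu
      obtain ⟨v, h1, h2⟩ := hy u hu
      rw [mul_smul, h2]
      exact hx v h1
  have b := bd_of_orbit (K := closure {a, w}) (ω := pt 0) (n := 24) (pt := pt) (by
    rintro _ ⟨x, rfl⟩
    obtain ⟨v, h1, h2⟩ := k x x.2 0 (by decide)
    exact ⟨v, h1, h2.symm⟩)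
  rw [h0, MulAction.stabilizer_quotient] at b
  exact ((Bd.of_card (n := 7) (Nat.card_zpowers w ▸ orderOf_le_of_pow_eq_one (by decide) h7)).trans b bot_le
    (zpowers_le_of_mem (subset_closure (by simp)))).card.2

theorem iso_of_diag {Δ : Subgroup (G × G')} {A : Subgroup G} {B : Subgroup G'}
    (h1 : ∀ x ∈ Δ, x.1 ∈ A ∧ x.2 ∈ B) (h2 : B ≤ Δ.map (MonoidHom.snd _ _)) (h3 : Nat.card Δ ≤ Nat.card B)
    (h4 : (∀ a, (a, 1) ∈ Δ → a = 1) → ∀ b, (1, b) ∈ Δ → b = 1) (h5 : Nat.card A = Nat.card B) :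
    Nonempty (A ≃* B) := by
  let f : Δ →* A := ((MonoidHom.fst _ _).comp Δ.subtype).codRestrict A fun x => (h1 _ x.2).1
  let f' : Δ →* B := ((MonoidHom.snd _ _).comp Δ.subtype).codRestrict B fun x => (h1 _ x.2).2
  have b' : Function.Bijective f' := Function.Surjective.bijective_of_nat_card_le (fun b => by
    obtain ⟨x, hx, e⟩ := h2 b.2
    exact ⟨⟨x, hx⟩, Subtype.ext e⟩) h3
  have k := h4 fun a ha => congrArg (·.1.1) ((injective_iff_map_eq_one f').1 b'.1 ⟨_, ha⟩ rfl)
  have b : Function.Bijective f := Function.Injective.bijective_of_nat_card_le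
    ((injective_iff_map_eq_one f).2 fun ⟨⟨a, b⟩, h⟩ e => by
      obtain rfl : a = 1 := congrArg Subtype.val e
      obtain rfl := k b h
      rfl) (by rw [h5, Nat.card_eq_of_bijective _ b'])
  exact ⟨(MulEquiv.ofBijective f b).symm.trans (MulEquiv.ofBijective f' b')⟩

/-- the extraspecial group in matrices -/
def c5 (n : ℕ) : ℕ := pk (nat_lit 0x862927c31497e18a4bb0c524d86292dc31492e18a4930c525986292bc31491e18a48b0c5255862921c31494e18a4a30c524186282fc31413e18a0bb0c504d862825c31416e18a0930c5059862823c31415e18a08b0c5055862829c31410e18a0a30c504186092fc30493e18249b0c125d86092dc30492e1824930c1259860923c30495e1824ab0c1245860921c30494e1824a30c1241860827c30417e18209b0c105d860825c30416e1820930c105986082bc30411e1820ab0c1045860829c30410e1820a30c104182292fc11493e08a49b04525d822925c11496e08a4b304524982292bc11491e08a48b045255822921c11494e08a4a3045241822827c11417e08a09b04505d82282dc11412e08a0b3045049822823c11415e08a08b045055822829c11410e08a0a3045041820927c10497e0824bb04124d820925c10496e0824b3041249820923c10495e0824ab041245820921c10494e0824a304124182082fc10413e0820bb04104d82082dc10412e0820b304104982082bc10411e0820ab041045820829c10410e0820a3041041)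 n

/-- the two generators in matrices -/
noncomputable def gm (i : ℕ) : ℕ := sel (Nat.beq i 0) 0x1051041 0x1020941

theorem c5_chk : allLt (fun i => force (c5 i) fun x => band (band (ok x) (band
    (Nat.beq (cj (gm 0) x) (c5 (tA 0 i))) (Nat.beq (cj (gm 1) x) (c5 (tw i)))))
    (allLt (fun j => Nat.beq (c5 (qm i j)) (x ⋆ c5 j)) 128)) 128 = true := by decide +kernel

theorem c5_spec {i : ℕ} (hi : i < 128) : (ok (c5 i) = true ∧ cj (gm 0) (c5 i) = c5 (tA 0 i) ∧
    cj (gm 1) (c5 i) = c5 (tw i)) ∧ ∀ j < 128, c5 (qm i j) = c5 i ⋆ c5 j := by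
  simpa only [frc, band_eq_true, Nat.beq_eq, allLt_iff] using (allLt_iff _ _).1 c5_chk i hi

theorem centQ_chk : allK mL mQ (fun a => bimp (cm a (c5 2)) (bimp (cm a (c5 4)) (bimp (cm a (c5 8))
    (bimp (cm a (c5 16)) (bimp (cm a (c5 32)) (bimp (cm a (c5 64)) (bor (Nat.beq a I5) (Nat.beq a z0)))))))) =
    true := by decide +kernel

theorem Emb.centQ (E : Emb g) {x : G'} (h : ∀ n < 128, x * g (c5 n) = g (c5 n) * x) : x = 1 ∨ x = g z0 := by
  obtain ⟨a, ha, rfl⟩ := E.cent (x := x) (h 1 (by decide))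
  have k : ∀ n < 128, He.cm a (c5 n) = true := fun n hn => (E.cm ha (c5_spec hn).1.1).2 (h n hn)
  have := allK' centQ_chk ha
  simp only [bimp_eq_true, bor_eq_true, Nat.beq_eq] at this
  exact (this (k _ (by decide)) (k _ (by decide)) (k _ (by decide)) (k _ (by decide)) (k _ (by decide))
    (k _ (by decide))).imp (fun e : a = _ => e ▸ E.one) fun e : a = _ => e ▸ rfl

theorem ok_gm : ok (gm 0) = true ∧ ok (gm 1) = true := by decide +kernel

theorem Emb.ev_gm (E : Emb g) (w : List ℕ) : ev (fun i => g (gm i)) w = g (He.evc gm w) :=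
  (E.evc fun x _ => by cases x <;> [exact ok_gm.1; exact ok_gm.2]).2.symm

theorem St.iso (S : St Q z φ ω) (A : Act φ 128 φ 128 a (tA 0)) (h2 : a * a = 1) (h7 : ω ^ 7 = 1)
    (h3 : (ω * a) ^ 3 = 1) (hC : Nat.card (centralizer ({z} : Set G)) = 21504) (E : Emb g) :
    Nonempty (centralizer ({z} : Set G) ≃* centralizer ({g z0} : Set G')) := by
  have az := S.comm A
  have h4 : (ω * ω * ω * a) ^ 4 = 1 := by
    have := S.cent ((S.word A [0, 1, 1, 1, 0, 1, 1, 1]).mul (S.word A [1, 1, 1, 1, 0, 1, 0]))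
      ((S.word A [1, 1, 1, 1, 0, 1, 0]).mul A) (by decide +kernel)
    generalize ev (G := G) _ [1, 1, 1, 1, 0, 1, 0] = W at this
    rw [show (ω * ω * ω * a) ^ 4 = ev (fun i => if i = 0 then a else ω) [0, 1, 1, 1, 0, 1, 1, 1] *
      ev (fun i => if i = 0 then a else ω) [0, 1, 1, 1, 0, 1, 1, 1] by simp [ev_cons, pow_succ, mul_assoc]]
    generalize ev (G := G) _ [0, 1, 1, 1, 0, 1, 1, 1] = r at *
    rcases this with h | h <;> rw [eq_mul_inv_of_mul_eq h]
    · rw [conj_mul, h2, mul_one, mul_inv_cancel]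
    · rw [mul_assoc W, conj_mul, mul_assoc a, ← mul_assoc z, ← az, mul_assoc a, S.h.sq, mul_one, h2, mul_one,
        mul_inv_cancel]
  have C : Co (fun n => (φ n, g (c5 n))) 128 qm := ⟨by decide, Prod.ext S.co.one E.one, qm_lt,
    fun ha hb => Prod.ext (S.co.mul ha hb) (((c5_spec ha).2 _ hb) ▸ E.mul (c5_spec ha).1.1 (c5_spec hb).1.1),
    fun ha hb e => S.co.inj ha hb (congrArg Prod.fst e)⟩
  have o := ok_gm
  have hL : closure {(a, g (gm 0)), (ω, g (gm 1))} ≤ normalizer (csub (fun n => (φ n, g (c5 n))) 128 :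
      Set (G × G')) := (closure_le _).2 (by
    rintro _ (rfl | rfl) <;> refine norm_of fun y hy => ?_ <;> obtain ⟨n, hn, rfl⟩ := C.mem.1 hy
    · exact C.mem.2 ⟨_, (A hn).1, Prod.ext (A hn).2
        ((c5_spec hn).1.2.1 ▸ (E.cj o.1 (c5_spec hn).1.1).symm)⟩
    · exact C.mem.2 ⟨_, (S.w hn).1, Prod.ext (S.w hn).2
        ((c5_spec hn).1.2.2 ▸ (E.cj o.2 (c5_spec hn).1.1).symm)⟩)
  have r : ∀ w, He.evc gm w = I5 → ev (fun i => g (gm i)) w = 1 := fun w h => by rw [E.ev_gm, h, E.one]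
  have cL := card_L32 (a := (a, g (gm 0))) (w := (ω, g (gm 1)))
    (Prod.ext h2 (by simpa [ev_cons] using r [0, 0] (by decide +kernel)))
    (Prod.ext h7 (by simpa [ev_cons, pow_succ] using r [1, 1, 1, 1, 1, 1, 1] (by decide +kernel)))
    (Prod.ext h3 (by simpa [ev_cons, pow_succ, mul_assoc] using r [0, 1, 0, 1, 0, 1] (by decide +kernel)))
    (Prod.ext h4 (by simpa [ev_cons, pow_succ, mul_assoc] using (r
      [0, 1, 1, 1, 0, 1, 1, 1, 0, 1, 1, 1, 0, 1, 1, 1] (by decide +kernel))))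
  have m0 : (a, g (gm 0)) ∈ closure {(a, g (gm 0)), (ω, g (gm 1))} := subset_closure (by simp)
  have m1 : (ω, g (gm 1)) ∈ closure {(a, g (gm 0)), (ω, g (gm 1))} := subset_closure (by simp)
  have hK : sub g mK = centralizer {g z0} := Subgroup.ext fun _ => E.mem_K.trans mem_centralizer_singleton_iff.symm
  have hz : csub (fun n => (φ n, g (c5 n))) 128 ⊔ closure {(a, g (gm 0)), (ω, g (gm 1))} ≤
      centralizer {(z, g z0)} := sup_le (fun y hy => by
    obtain ⟨n, hn, rfl⟩ := C.mem.1 hy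
    exact mem_centralizer_singleton_iff.2 (Prod.ext (S.h.central _ (S.mem_of hn)) (E.comm_z (c5_spec hn).1.1)))
    ((closure_le _).2 (by
      rintro _ (rfl | rfl)
      exacts [mem_centralizer_singleton_iff.2 (Prod.ext az (E.comm_z o.1)),
        mem_centralizer_singleton_iff.2 (Prod.ext (S.comm S.w) (E.comm_z o.2))]))
  generalize closure {(a, g (gm 0)), (ω, g (gm 1))} = L at *
  refine iso_of_diag (Δ := csub (fun n => (φ n, g (c5 n))) 128 ⊔ L) (fun x hx => ?_) (hK ▸ E.K_le ?_) ?_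
    (fun k b hb => ?_) (by rw [hC, ← hK, E.card_K])
  · have := mem_centralizer_singleton_iff.1 (hz hx)
    exact ⟨mem_centralizer_singleton_iff.2 (congrArg Prod.fst this),
      mem_centralizer_singleton_iff.2 (congrArg Prod.snd this)⟩
  · intro i hi
    rcases (by decide +kernel : ∀ i < 13, (∃ n < 128, c5 n = elm i) ∨ ∃ w ∈ [[1, 1, 0, 1, 1, 1, 0, 1], [0],
      [0, 1, 0, 1, 1], [0, 1, 1, 1, 0, 1, 1, 1], [1, 0, 1, 1, 1, 0, 1, 1], [0, 1, 1, 0, 1]],
      He.evc gm w = elm i) i hi with ⟨n, hn, e⟩ | ⟨w, -, e⟩ <;> rw [← e]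
    · exact ⟨_, mem_sup_left (mem_csub hn), rfl⟩
    · rw [← E.ev_gm]
      exact ev_mem fun x _ => by cases x <;> [exact ⟨_, mem_sup_right m0, rfl⟩; exact ⟨_, mem_sup_right m1, rfl⟩]
  · rw [← hK, E.card_K, ← SetLike.coe_sort_coe, coe_mul_of_right_le_normalizer_left _ _ hL]
    exact Set.natCard_mul_le.trans (Nat.mul_le_mul C.card.le cL)
  · rcases E.centQ (x := b) (fun n hn => by
      obtain ⟨m, hm, e⟩ := C.mem.1 (norm_conj (sup_le le_normalizer hL hb) (mem_csub hn))
      obtain rfl := S.co.inj hn hm (by simpa using congrArg Prod.fst e)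
      exact mul_inv_eq_iff_eq_mul.1 (congrArg Prod.snd e)) with h | rfl
    · exact h
    · have := mul_mem hb (mem_sup_left (mem_csub (a := 1) (by decide)))
      rw [Prod.mk_mul_mk, one_mul, S.z1, show g z0 * g (c5 1) = 1 from E.zz] at this
      exact absurd (k _ this) S.h.ne_one

omit [Finite G] in
theorem St.mulz (S : St Q z φ ω) {t : ℕ → ℕ} (A : Act φ 128 φ 128 a t) : Act φ 128 φ 128 (a * z) t :=
  fun n hn => ⟨(A hn).1, by
    rw [mul_assoc a, ← S.h.central _ (S.mem_of hn), ← (A hn).2]; group⟩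

theorem St.split (S : St Q z φ ω) (A : Act φ 128 φ 128 a (tA 0)) (h2 : a * a = 1)
    (hC : Nat.card (centralizer ({z} : Set G)) = 21504) : ∃ g, Emb g ∧ g z0 = z := by
  have zz : z ^ 2 = 1 := (sq z).trans S.h.sq
  obtain ⟨ω, S, h7⟩ : ∃ ω, St Q z φ ω ∧ ω ^ 7 = 1 := by
    rcases S.cent (S.word A [1, 1, 1, 1, 1, 1, 1]) (S.word A []) (by decide +kernel) with h | h
    · exact ⟨ω, S, by simpa [ev_cons, pow_succ] using h⟩
    · refine ⟨ω * z, ⟨S.h, S.co, S.mem, S.z1, S.mulz S.w⟩, ?_⟩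
      rw [Commute.mul_pow (S.comm S.w), show ω ^ 7 = z by simpa [ev_cons, pow_succ] using h, ← pow_succ',
        pow_mul z 2 4, zz, one_pow]
  obtain ⟨a, A, h2, h3⟩ : ∃ a, Act φ 128 φ 128 a (tA 0) ∧ a * a = 1 ∧ (ω * a) ^ 3 = 1 := by
    rcases S.cent (S.word A [0, 1, 0, 1, 0, 1]) (S.word A []) (by decide +kernel) with h | h
    · exact ⟨a, A, h2, by simpa [ev_cons, pow_succ, mul_assoc] using h⟩
    · refine ⟨a * z, S.mulz A, by rw [← sq, Commute.mul_pow (S.comm A), zz, sq, h2, one_mul], ?_⟩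
      rw [← mul_assoc, Commute.mul_pow (Commute.mul_left (S.comm S.w) (S.comm A)), show (ω * a) ^ 3 = z by
        simpa [ev_cons, pow_succ, mul_assoc] using h, ← pow_succ', pow_mul z 2 2, zz, one_pow]
  obtain ⟨e⟩ := S.iso A h2 h7 h3 hC emb_sl
  exact emb_sl.transfer (orderOf_eq_prime zz S.h.ne_one) e

theorem shape {R : Subgroup (centralizer ({z} : Set G))} [R.Normal]
    (h : L3 (R.map (centralizer ({z} : Set G)).subtype) z) (hc : Nat.card R = 2 ^ 7)
    (e : centralizer ({z} : Set G) ⧸ R ≃* Matrix.SpecialLinearGroup (Fin 3) (ZMod 2)) {s₀ : G}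
    (c1 : IsConj z s₀) (c2 : s₀ * z = z * s₀) (c3 : s₀ ≠ z) : (∃ g, Emb g ∧ g z0 = z) ∨
    (∃ A : Set G, A.ncard = 16 ∧ ∀ s, IsConj z s → s * z = z * s → s ∈ A) ∧ ∃ x y : G,
      (x * x = 1 ∧ x ≠ 1 ∧ ¬ IsConj z x) ∧ (y * y = 1 ∧ y ≠ 1 ∧ ¬ IsConj z y) ∧ ¬ IsConj x y := by
  have hC : Nat.card (centralizer ({z} : Set G)) = 21504 := by
    have := H10.card_SL_fin (F := ZMod 2) 3 (by decide)
    rw [Nat.card_zmod] at this
    rw [card_eq_card_quotient_mul_card_subgroup R, hc, Nat.card_congr e.toEquiv]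
    simp only [Fin.prod_univ_three] at this
    norm_num at this ⊢
    omega
  let θ := e.toMonoidHom.comp (QuotientGroup.mk' R)
  have hθ : ∀ x, θ x = 1 ↔ (x : G) ∈ R.map (centralizer ({z} : Set G)).subtype := fun x => by
    rw [H95.mem_map_cent]
    exact (map_eq_one_iff e e.injective).trans ((QuotientGroup.eq_one_iff x).trans ⟨fun h => ⟨x.2, h⟩, (·.2)⟩)
  have hs : Function.Surjective θ := e.surjective.comp (QuotientGroup.mk'_surjective R)
  obtain ⟨w, hw⟩ := hs ⟨!![0, 0, 1; 1, 0, 1; 0, 1, 0], by decide⟩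
  obtain ⟨x, hx⟩ := hs ⟨!![1, 0, 1; 0, 1, 0; 0, 0, 1], by decide⟩
  obtain ⟨φ, S⟩ := exists_st (ω := (w : G)) h ((H95.card_map_cent R).trans hc)
    (mem_centralizer_singleton_iff.1 w.2) ((hθ (w ^ 7)).1 (by rw [map_pow, hw]; decide))
    fun k => absurd (congrArg (·.1 0 0) (hw.symm.trans ((hθ w).2 k))) (by decide)
  obtain ⟨j, hj, a, A⟩ := S.exists_invol (x := (x : G)) (mem_centralizer_singleton_iff.1 x.2) (fun q hq => by
    obtain ⟨q, hq', rfl⟩ := id hq
    exact (hθ (x * q * (x * q))).1 (by rw [map_mul, map_mul, (hθ q).2 hq, hx]; decide)) fun q hq => by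
    obtain ⟨q, hq', rfl⟩ := id hq
    exact (hθ ((x * q * w) ^ 3)).1 (by rw [map_pow, map_mul, map_mul, (hθ q).2 hq, hx, hw]; decide)
  have he : a * a = φ 0 ∨ a * a = φ 1 := by
    rw [S.co.one, S.z1, ← one_mul z]
    refine S.cent (A.mul A) (S.word A []) ?_
    interval_cases j <;> decide +kernel
  interval_cases j <;> rcases he with he | he
  · exact .inl (S.split A (he.trans S.co.one) hC)
  · exact absurd (S.twisted ok01 A he hC n01 c1 c2) c3
  · exact .inr (S.uniserial ok10 A he hC un10 c1 c2 c3)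
  · exact absurd (S.twisted ok11 A he hC n11 c1 c2) c3
  · exact .inr (S.uniserial ok20 A he hC un20 c1 c2 c3)
  · exact absurd (S.twisted ok21 A he hC n21 c1 c2) c3

end H49.He
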