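import Cfsg.Agent.Lib.Held.Syl

/-!
# The classes of involutions of the centraliser and their fusion with `z` (helper49)

Classes: 0 = z, 1 = a₁, 2 = a₂, 3 = t, 4 = b, 5 = b z, 6 = c₁, 7 = c₂.
-/

set_option autoImplicit false

namespace H49.He

open H54 (force sel band bor bimp force_eq band_eq_true bor_eq_true bimp_eq_true allL allL_iff
  anyL anyL_iff allLt allLt_iff tb tb_eq)
open Subgroup

/-- entry `i` of a packed list of codes -/
def pk (T i : ℕ) : ℕ := Nat.land (Nat.shiftRight T (Nat.mul (nat_lit 25) i)) (nat_lit 0x1ffffff)

/-- the index of an element of `T` -/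
def idxT (a : ℕ) : ℕ := Nat.lor (Nat.lor (Nat.land (Nat.shiftRight a (nat_lit 1)) (nat_lit 15))
  (Nat.land (Nat.shiftRight a (nat_lit 3)) (nat_lit 0x70)))
  (Nat.lor (Nat.land (Nat.shiftRight a (nat_lit 6)) (nat_lit 0x180))
  (Nat.land (Nat.shiftRight a (nat_lit 10)) (nat_lit 0x200)))

/-- classes -/
def clT : ℕ := nat_lit 0x6db6db6db6db6db6db6db6db6db6db6db6db6db6db6db6db6db6db6db6db6db6db6db6db6db6db6db6db6db6db6db6db7db6df7db6df6db6db6db6db6db6db6db6db6db6da6db6da7db6df7db6df6db6db6db6db6db6db6db6db6db6da6db6da6db6db6db6db6db6db6db6db6db6db6db6db6db6db6db6db6db6db6db6db6db6db6db6db6db6db6db6db6db6db6db6db6db6db6db6db6db6db6db6db6db7df6db7df6db6da6db6da6db6db6db6db6db6db6db6db6db7df6db7df6db6da6db6da6db6db6db6dbcdccddcddcdc6db6db6db6db6df6df6df6df6db6db6db6db6df6df6df6df6db6db6db6db6f46f56f56f46db6db6db6db6df6df6df6df6db6db6db6db6db6da6db6da6db6db6db6db6df6df6df6df6db6db6db6db6db6da6db6da6db6db6db6db6df6df6df6df6db6db6db6db6df6df6df6df6db6db6db6dbcddcddcdccdc6db6db6db6db6f56f56f46f471e79d75e79c79c79d79d79c79e71d79e75c6db6da6db6da75e79d71e79c79d79d79c79c79e75d79e71c24924824924b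
/-- conjugating elements -/
def wT : ℕ := nat_lit 0x438410c00000000000000000000000000000010610c5000000418430c00000000000000000000000000000010610c10000000000000000000000000000000000000000000000000000000000000000000000000000000000000000000000000000000000000000000000000000000000000000000000000000000000000000000000000000000000000000000000000000000000000041c610e0a3086000000839421800000000000107184300000041c61060a30820000008394208000000000001071841000000438430c0000000000000000000000000000001061045000000418410c000000000000000000000000000000106104100000000000000000000000000000000000000000000000000000000000000000000000000000000000000000000000000000000000000000000000000000000000000000000000000000000000000000000000000000000000000000000000000000000838441c1c620c00000000000000000000000020e5207071883838440c1c620400000000000000000000000020e5203071881000000000000000000000000000000000000000000000000000000000000000000000000000000000000000000000000000000000000000000000000000000000000000000000000000000000000000000000000000000000000000000000000000000000000000000000000000000000000000000000000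00000000000000000000000000000000000000000000000000000000000000000000000000000000000000000000000000000000000000000000000000000000000000000000000000000000000000000000000000000000000000000000000000000000000000000000000000000000000000000000000000000000000000000000000000000000000000000000000000000000000000000000000000000000000000000000000000000000000000000000000000000000000000000000000000000000000000000000000000000000000000000000000000000000000000000000000000000000000000000000000000000000000000000000000000000000000000000000000000000000000000000000000000000000000000000000000000000000000000000000000000000000000000000000000000000000000000000000000000000000000000000000000000000000000000000000000000000000000000000000000000000000000000000000000000000000000000000000000000000000000000000000000439810c0000010620c50000000000000000000000000000000418830c0000010620c183882180000020e218600000000000041c810c00000107204383882080000020e218200000000000041c81040000010720410000000000000000000000000000000000000000000000000000000000000000000000000000000000000000000000000000000000000000000000000000000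00000000000000000000000000000000000000000000000000000000000000000000000000000000000000000000000000000000439830c0000010620450000000000000000000000000000000418810c0000010620410000000000000000000000000839841c1c820e0e62070720830000000000000000000000000839840c1c82060e62030720810000000000000000000000000000000000000000000000000000000000000000000000000000000000000000000000000000860c2180000000000010c1843863c2180000000000010c1841863c2080000000000010c1843860c2080000000000010c184100000000000000000000000000000000000000000000000000000000000000000000000000000000000000000000000000000000000000000000001041887000000000000000000104188500000000000000000010418830000000000000000001041881000000000000000000000000000000000000000000000000000000000000000000000000000000000000000000000000000000000000000000000010c08c3000000000000000000104184500000000000000000010418430000000000000000001041841000000000000000000000000000000000000000000000000000000000000000000000000000000000000000000000000000000000000000021831070c1883000000000000218f7070c1881000000000000218f7030c188300000000000021831030c188100000000000000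0000000000000000000000000000000000000000000000000000000000000000000000000000000000000000000000000000000010c104300000000000000000010410c500000000000000000010410c300000000000000000010410c10000000000000000000000000000000000000000000000000000000000000000000000000000000000000000000000000000830c2180000000000010418438314218000000000001041843830c2080000000000010418418314208000000000001041841000000000000000000000000000000000000000000000000000000000000000000000000000000000000000000000000000000000000000000000010c10c3000000000000000000104104500000000000000000010410430000000000000000001041041000000000000000000000000000000000000000000000000000000000000000000000000000000000000000000000000000000000000000020c310704188300000000000020c520704188300000000000020c310304188100000000000020c5203041881000000000000000000000000000000000000000000000000000000000000000000000000000000000000000000000000000000000000000000000010c184300000000000000000010408c500000000000000000010408c300000000000000000010408c100000000000000000000000000000000000000000000000000000000000000000000000000000000000000000000000000000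0000000000000000010c18830000000000000000001040885000000000000000000104088300000000000000000010408810000000000000000000000000000000000000000000000000000000000000000000000000000000000000000000000000000823c208000000000001041843823c218000000000001041841820c218000000000001041843820c2080000000000010418410000000000000000000000000000000000000000000000000000000000000000000000000000000000000000000000000000000000000000208f703041883000000000000208f70704188100000000000020831070418830000000000002083103041881000000438410c0000010e1043000000409c10c0000010e1041000000438410c00000102704100000043841040000010e1041000000430410c0000010c1043000000431c10c0000010c1041000000431c1040000010c104300000043041040000010c104100000041981040000010e6043000000439810c0000010e60410000004398104000001026041000000439810c0000010e6041000000418410c000001041043000000418810c00000104104300000041841040000010410410000004188104000001041041000000418410c0000010a70410000004394104000001061041000000418410c0000010610430000004184104000001061041000000411c104000001041043000000411c10c000001041041000000410410c000001041043000000410410400000104104100000043881040000010e2043000000418810c0000010620410000004188104000001062043000000418810c000001062041870c20c3841061c31030c1041873420c3981061cd603041041830c20c1841060c3103041041831420c1881060c5202000000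
/-- square roots of `z` -/
def sqT : ℕ := nat_lit 0x860864c10c90e08a08b045045860921c114116082487041243

/-- the class of an involution of `T` (and 3 for the identity) -/
noncomputable def cl (a : ℕ) : ℕ :=
  force a fun a => Nat.land (Nat.shiftRight clT (Nat.mul (nat_lit 3) (idxT a))) (nat_lit 7)

/-- the representative of a class -/
def rp (c : ℕ) : ℕ := pk (nat_lit 0x8228a0c1045160822a3041141820924c104906082093041051) c

/-- `t` -/ def ct : ℕ := nat_lit 0x1041249
/-- `b z` -/ def cbz : ℕ := nat_lit 0x1041151
/-- `c₁` -/ def cc1 : ℕ := nat_lit 0x1041145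
/-- `c₂` -/ def cc2 : ℕ := nat_lit 0x1045141

theorem cl_lt (a : ℕ) : cl a < 8 := by
  rw [cl, force_eq]; exact Nat.lt_succ_of_le Nat.and_le_right

theorem cl_chk : allM mT (fun a => bimp (sq1 a) (bor (Nat.beq a I5) (force (pk wT (idxT a)) fun k =>
    band (ok k) (Nat.beq (cj k (rp (cl a))) a)))) = true := by decide +kernel

theorem rp_chk : allLt (fun c => band (band (inM mT (rp c)) (ok (pk sqT c)))
    (band (Nat.beq (pk sqT c ⋆ pk sqT c) z0) (cm (pk sqT c) (rp c)))) 8 = true := by decide +kernel

theorem pow_chk : allK mL mQ (fun a => force (a ⋆ a) fun b => band (!Nat.beq b cbz)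
    (force (b ⋆ b) fun c => bimp (sq1 c) (bor (Nat.beq c I5) (Nat.beq c z0)))) = true := by
  decide +kernel

theorem ok_rp {c : ℕ} (h : c < 8) : ok (rp c) = true := by
  have := (allLt_iff _ _).1 rp_chk c h
  simp only [band_eq_true] at this
  exact ok_of_T this.1.1

/-- the class of `a` is in the set `X` -/
noncomputable def dd (X a : ℕ) : Bool := tb X (cl a)

attribute [irreducible] cl dd

/-- the number of pairs in `X` with product `a` -/
noncomputable def prs (m X a : ℕ) : ℕ := force a fun a => cntM m fun b => band (dd X b) (dd X (a ⋆ b))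

theorem prs_chk : allLt (fun X => bimp (tb X 0) (bor (tb X 3) (bor (tb X 5)
    (bimp (force (prs mU1 X z0) fun n => allL (fun c => bimp (tb X c) (Nat.beq (prs mU1 X (rp c)) n)) [1, 2, 4, 6])
    (bimp (force (prs mU2 X z0) fun n => allL (fun c => bimp (tb X c) (Nat.beq (prs mU2 X (rp c)) n)) [1, 2, 4, 7])
      (anyL (Nat.beq X) [1, 3, 5, 23, 87, 151, 215])))))) 256 = true := by decide +kernel

variable {G : Type*} [Group G]

/-- conjugate to `z` -/
def Dz (g : ℕ → G) (x : G) : Prop := IsConj (g z0) x

theorem Dz.conj {g : ℕ → G} {x : G} (h : Dz g x) (y : G) : Dz g (y * x * y⁻¹) :=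
  IsConj.trans h (isConj_iff.2 ⟨y, rfl⟩)

theorem Dz.of_conj {g : ℕ → G} {x y : G} (h : Dz g (y * x * y⁻¹)) : Dz g x :=
  IsConj.trans h (isConj_iff.2 ⟨y, rfl⟩).symm

theorem dz_conj {g : ℕ → G} {x y : G} : Dz g (y * x * y⁻¹) ↔ Dz g x := ⟨Dz.of_conj, fun h => h.conj y⟩

theorem dz_z (g : ℕ → G) : Dz g (g z0) := IsConj.refl _

/-- `X` is the set of the classes fused with `z` -/
def HasX (g : ℕ → G) (X : ℕ) : Prop := ∀ c < 8, X.testBit c = true ↔ Dz g (g (rp c))

theorem exists_hasX (g : ℕ → G) : ∃ X < 256, HasX g X := by
  classical
  refine ⟨Nat.ofBits (n := 8) fun c => decide (Dz g (g (rp c))), Nat.ofBits_lt_two_pow _, fun c hc => ?_⟩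
  rw [Nat.testBit_ofBits_lt _ _ hc, decide_eq_true_iff]

namespace Emb

variable {g : ℕ → G}

theorem dz_sq (E : Emb g) {x : G} (h : Dz g x) : x * x = 1 ∧ x ≠ 1 := by
  obtain ⟨y, rfl⟩ := isConj_iff.1 h
  exact ⟨by rw [conj_mul, E.zz, mul_one, mul_inv_cancel], fun e => absurd (conj_eq_one_iff.1 e) E.ne_one⟩

theorem cl_spec (E : Emb g) {a : ℕ} (ha : inM mT a = true) (h : He.sq1 a = true) (h1 : a ≠ I5) :
    ∃ k, ok k = true ∧ g k * g (rp (cl a)) * (g k)⁻¹ = g a := by
  have := allM_spec cl_chk (by decide) ha
  simp only [bimp_eq_true, bor_eq_true, force_eq, band_eq_true, Nat.beq_eq] at this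
  obtain ⟨h2, h3⟩ := (this h).resolve_left h1
  exact ⟨_, h2, by rw [← E.cj h2 (ok_rp (cl_lt a)), h3]⟩

theorem not_t (E : Emb g) : ¬ Dz g (g ct) := fun h => by
  obtain ⟨y, hy⟩ := isConj_iff.1 h
  have h1 : g 0x10c30c3 * g ct = g ct * g 0x10c30c3 := E.mul_eq_mul
  have h2 : g 0x10c30c3 * g 0x10c30c3 * (g 0x10c30c3 * g 0x10c30c3) = g z0 := by
    rw [E.mul_eq (c := 0x10c30c3 ⋆ 0x10c30c3)]; exact E.mul_eq
  obtain ⟨a, ha, e⟩ := E.cent (x := y⁻¹ * g 0x10c30c3 * y) (by
    calc _ = y⁻¹ * (g 0x10c30c3 * (y * g z0 * y⁻¹)) * y := by group
      _ = _ := by rw [hy, h1, ← hy]; group)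
  have h3 : g (a ⋆ a ⋆ (a ⋆ a)) = y⁻¹ * g z0 * y := by
    rw [E.mul (ok_mul ha ha) (ok_mul ha ha), E.mul ha ha, ← e, ← h2]; group
  have h4 : Dz g (g (a ⋆ a ⋆ (a ⋆ a))) := by
    rw [h3]; simpa using (dz_z g).conj y⁻¹
  have h5 := ok_mul (ok_mul ha ha) (ok_mul ha ha)
  have := allK' pow_chk ha
  simp only [bimp_eq_true, bor_eq_true, force_eq, band_eq_true, Nat.beq_eq] at this
  rcases this.2 ((E.sq1 h5).2 (E.dz_sq h4).1) with e | e
  · exact (E.dz_sq h4).2 ((E.eq_one h5).2 e)
  · rw [e] at h3
    refine E.ne (a := ct) (b := z0) (by decide +kernel) ?_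
    rw [← hy]
    nth_rewrite 1 [h3]; group

variable [Finite G]

theorem invol (E : Emb g) {M : Subgroup G} (hM : sub g mK ≤ M) {s : G} (hs : s ∈ M) (h2 : s * s = 1)
    (h1 : s ≠ 1) : ∃ c < 8, ∃ k ∈ M, k * g (rp c) * k⁻¹ = s := by
  obtain ⟨x, hx, h⟩ := E.conj_T ((sub_mono g).trans hM) (H9.isPGroup_zpowers_of_mul_self h2)
    (zpowers_le.2 hs)
  obtain ⟨a, ha, e⟩ := E.mem_T.1 (h s (mem_zpowers s))
  obtain ⟨k, hk, e'⟩ := E.cl_spec ha ((E.sq1 (ok_of_T ha)).2 (by
    rw [← e, conj_mul, h2, mul_one, mul_inv_cancel])) fun h => by
      rw [h, E.one] at e; exact h1 (conj_eq_one_iff.1 e)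
  refine ⟨_, cl_lt a, x⁻¹ * g k, mul_mem (inv_mem hx) (hM (E.mem_K.2 (E.comm_z hk))), ?_⟩
  calc _ = x⁻¹ * (g k * g (rp (cl a)) * (g k)⁻¹) * x := by group
    _ = _ := by rw [e', ← e]; group

theorem not_bz (E : Emb g) : ¬ Dz g (g cbz) := fun h => by
  obtain ⟨y, hy⟩ := isConj_iff.1 h
  have h0 : Dz g (y⁻¹ * g z0 * y) := by simpa using (dz_z g).conj y⁻¹
  obtain ⟨c, hc, k, hk, e⟩ := E.invol le_rfl (s := y⁻¹ * g z0 * y) (E.mem_K.2 (by
    calc _ = y⁻¹ * (g z0 * (y * g z0 * y⁻¹)) * y := by group
      _ = _ := by rw [hy, ← E.comm_z (by decide +kernel), ← hy]; group)) (E.dz_sq h0).1 (E.dz_sq h0).2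
  have := (allLt_iff _ _).1 rp_chk c hc
  simp only [band_eq_true, Nat.beq_eq] at this
  obtain ⟨⟨-, h1⟩, h2, h3⟩ := this
  rw [E.cm h1 (ok_rp hc)] at h3
  obtain ⟨a, ha, e'⟩ := E.cent (x := y * k * g (pk sqT c) * (y * k)⁻¹) (by
    have : g z0 = y * k * g (rp c) * (y * k)⁻¹ := by
      calc _ = y * (y⁻¹ * g z0 * y) * y⁻¹ := by group
        _ = _ := by rw [← e]; group
    rw [this, conj_mul, conj_mul, h3])
  have := allK' pow_chk ha
  simp only [force_eq, band_eq_true, Bool.not_eq_true', ← Bool.not_eq_true, Nat.beq_eq] at this
  refine this.1 (E.inj (ok_mul ha ha) (by decide +kernel) ?_)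
  rw [E.mul ha ha, ← e', conj_mul, ← E.mul h1 h1, h2, ← hy, mul_assoc y k, E.mem_K.1 hk]
  group

theorem dd_iff (E : Emb g) {X : ℕ} (hX : HasX g X) {a : ℕ} (ha : inM mT a = true) (h : He.sq1 a = true) :
    dd X a = true ↔ Dz g (g a) := by
  unfold dd
  rw [tb_eq, hX _ (cl_lt a)]
  by_cases h1 : a = I5
  · rw [h1, show cl I5 = 3 by decide +kernel, E.one]
    exact iff_of_false E.not_t fun h => (E.dz_sq h).2 rfl
  · obtain ⟨k, -, e⟩ := E.cl_spec ha h h1
    rw [← e, dz_conj]

theorem dd1 (E : Emb g) {X : ℕ} (hX : HasX g X) {a : ℕ} (ha : inM mU1 a = true) :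
    dd X a = true ↔ Dz g (g a) :=
  have h := inM_mono (m' := mT) ha rfl
  E.dd_iff hX h ((E.sq1 (ok_of_T h)).2 (E.ab1 (mem_sub_of ha (ok_of_T h))).1)

theorem dd2 (E : Emb g) {X : ℕ} (hX : HasX g X) {a : ℕ} (ha : inM mU2 a = true) :
    dd X a = true ↔ Dz g (g a) :=
  have h := inM_mono (m' := mT) ha rfl
  E.dd_iff hX h ((E.sq1 (ok_of_T h)).2 (E.ab2 (mem_sub_of ha (ok_of_T h))).1)

theorem cnt_conj (E : Emb g) {m : ℕ} (hm : Closed m ∧ m ||| mT = mT) {n : G}
    (hn : n ∈ normalizer (sub g m : Set G)) {p q : ℕ → Bool}
    (h : ∀ a b, inM m a = true → inM m b = true → n * g a * n⁻¹ = g b → (p a = true ↔ q b = true)) :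
    cntM m p = cntM m q := by
  rw [← E.ncard hm.1.1 fun a ha _ => ok_of_T (inM_mono ha hm.2),
    ← E.ncard hm.1.1 fun a ha _ => ok_of_T (inM_mono ha hm.2),
    ← Set.ncard_image_of_injective _ (MulAut.conj n).injective]
  congr 1
  ext x
  constructor
  · rintro ⟨_, ⟨a, h1, h2, rfl⟩, rfl⟩
    obtain ⟨b, h3, h4⟩ := (E.mem_T hm).1 (norm_conj hn ((E.mem_T hm).2 ⟨a, h1, rfl⟩))
    exact ⟨b, h3, (h a b h1 h3 h4).1 h2, h4⟩
  · rintro ⟨b, h1, h2, rfl⟩
    obtain ⟨a, h3, h4⟩ := (E.mem_T hm).1 (norm_conj' hn ((E.mem_T hm).2 ⟨b, h1, rfl⟩))
    have h5 : n * g a * n⁻¹ = g b := by rw [← h4]; group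
    exact ⟨_, ⟨a, h3, (h a b h3 h1 h5).2 h2, rfl⟩, h5⟩

theorem prs_conj (E : Emb g) {m X : ℕ} (hm : Closed m ∧ m ||| mT = mT)
    (hd : ∀ {a}, inM m a = true → (dd X a = true ↔ Dz g (g a))) {n : G}
    (hn : n ∈ normalizer (sub g m : Set G)) {u v : ℕ} (hu : inM m u = true) (hv : inM m v = true)
    (e : n * g u * n⁻¹ = g v) : prs m X u = prs m X v := by
  have k : ∀ {a}, inM m a = true → ok a = true := fun h => ok_of_T (inM_mono h hm.2)
  simp only [prs, force_eq]
  refine E.cnt_conj hm hn fun a b ha hb h => ?_
  rw [band_eq_true, band_eq_true, hd ha, hd hb, hd (inM_mul hm.1 hu ha), hd (inM_mul hm.1 hv hb),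
    E.mul (k hu) (k ha), E.mul (k hv) (k hb), ← h, ← e, conj_mul, dz_conj, dz_conj]

/-- the possible fusion patterns -/
theorem cases (E : Emb g) : ∃ X ∈ [1, 3, 5, 23, 87, 151, 215], HasX g X := by
  obtain ⟨X, h1, hX⟩ := exists_hasX g
  have := (allLt_iff _ _).1 prs_chk X h1
  simp only [bimp_eq_true, bor_eq_true, force_eq, tb_eq, allL_iff, anyL_iff, Nat.beq_eq] at this
  obtain ⟨Y, hY, rfl⟩ := ((this ((hX 0 (by decide)).2 (dz_z g))).resolve_left
    fun h => E.not_t ((hX 3 (by decide)).1 h)).resolve_left (fun h => E.not_bz ((hX 5 (by decide)).1 h))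
    (fun c hc h => by
      have h2 : c < 8 ∧ inM mU1 (rp c) = true := by clear h; revert c; decide +kernel
      obtain ⟨n, hn, e⟩ := E.fuse1 mem_sub_of (mem_sub_of h2.2 (ok_rp h2.1)) ((hX c h2.1).1 h)
      exact (E.prs_conj (by decide) (E.dd1 hX) hn (by decide +kernel) h2.2 e).symm)
    (fun c hc h => by
      have h2 : c < 8 ∧ inM mU2 (rp c) = true := by clear h; revert c; decide +kernel
      obtain ⟨n, hn, e⟩ := E.fuse2 mem_sub_of (mem_sub_of h2.2 (ok_rp h2.1)) ((hX c h2.1).1 h)
      exact (E.prs_conj (by decide) (E.dd2 hX) hn (by decide +kernel) h2.2 e).symm)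
  exact ⟨X, hY, hX⟩

end Emb

end H49.He
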