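import Cfsg.Agent.Lib.CosetEnum.TC
set_option autoImplicit false
set_option maxRecDepth 100000
namespace H49.ELL1
open H54 (Tr force band)
open H18.TC
noncomputable def T_0 : Tr := (.node (nat_lit 0) (.leaf (nat_lit 0x7b843820c3bc8e105931cd809c0008744eb1f64efa81469a9ee401a00061d155c974cf563d117493404e00007f847a37b4bb1a249ee3b800000007f035c18e0af05f82dc13f013800017f12d8774f3264a23d06f408200010d837c67c11e0af04f853800000006741fc0bf04f81fc0be03f)) (.node (nat_lit 1) (.leaf (nat_lit 0x2700013eca545182ac15aca907f6809c000bf165aae4562f0ec5ab383801a0007d6bdc9ea4ed8856ba39e2c00d000304cc265f36e7314caf05b700d00010b2a7047a24d0ff291441a0104000d55648b6559b51af68cb5d404e00050826e532c95b5782dc5e6400d0002f5ca74517598aedc9b65d3)) (.leaf (nat_lit 0xd23600000000000000df00003948069176000355000000067b0001d2003489d0001b2400000031e800000001a0004eae65738b9a5caba6d72ec00d00022d920f8a644321a312c9858138000f92816c03609b092836bf4004e0007373939c5cdb3965bac9be201a0004a3e3d926f917c65649f1cf))))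
noncomputable def J_0 : Tr := (.node (nat_lit 0) (.leaf (nat_lit 0x2000040000700000000000000001001000000000000000000030100100000000000000400000000030000000002000000000101001000010000001001000010000100000000000000000000000000000000004000050000400002000040100100000010010000000001000000000000000000030000000000010010000600002000010000300000000000000000000010260101e010160100e01006)) (.node (nat_lit 1) (.leaf (nat_lit 0x10010000100001000030101300001000000000000006000000000301001000000000500000000000000000002000020000500000010010000100000000020000200002000000000201001000010000000004000000000100003010010000100002000000000301001000020000200000000030000100000000000000500003010010000000000000000000000005000020000200000000040100100000)) (.leaf (nat_lit 0xb100400000000000000000000010010000000002a920c0000000003000000000001001000000000000001000000000000000000000100100000000000000000001000030000400001010010100b000020000000001000000000400001010010100b00000000000100100001000010000601013000010000300000000070000500003010010000000000000040000000001000030000400001010010100b00002))))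
noncomputable def F_0 : Tr := (.node (nat_lit 2) (.node (nat_lit 0) (.leaf (nat_lit 0x13a3dd0945285a9ac218a708860)) (.node (nat_lit 1) (.leaf (nat_lit 0x149c9b07a627599c46284819420)) (.leaf (nat_lit 0x117368a4ce4c341e83aca418820)))) (.node (nat_lit 4) (.node (nat_lit 3) (.leaf (nat_lit 0x149c9907a0f15948e6894919820)) (.leaf (nat_lit 0x149ca307b9ac5a928398a418820))) (.node (nat_lit 5) (.leaf (nat_lit 0x1484a335a9ac7b8c53a50219001)) (.leaf (nat_lit 0x149b6304ba4c329e81aca138082)))))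
noncomputable def T : Tr := T_0
noncomputable def J : Tr := J_0
noncomputable def F : Tr := F_0
noncomputable def row (u : ℕ) : ℕ := Nat.land (Nat.shiftRight (force (Nat.shiftRight u (nat_lit 3)) T.get) (Nat.mul (Nat.land u (nat_lit 7)) (nat_lit 117))) (nat_lit 0x1fffffffffffffffffffffffffffff)
noncomputable def jrow (u : ℕ) : ℕ := Nat.land (Nat.shiftRight (force (Nat.shiftRight u (nat_lit 3)) J.get) (Nat.mul (Nat.land u (nat_lit 7)) (nat_lit 160))) (nat_lit 0xffffffffffffffffffffffffffffffffffffffff)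
noncomputable def fget (k fx : ℕ) : ℕ := F.get (Nat.add k fx)
noncomputable def wt0 : LT := (.node (nat_lit 1) (.node (nat_lit 0) (.leaf 9 0 [nat_lit 13, nat_lit 0, nat_lit 13])
(.leaf 11 0 [nat_lit 26, nat_lit 0, nat_lit 26]))
(.node (nat_lit 3) (.node (nat_lit 2) (.leaf 13 0 [nat_lit 78, nat_lit 0, nat_lit 78])
(.leaf 1 3 [nat_lit 39, nat_lit 0, nat_lit 39]))
(.leaf 0 0 [])))
noncomputable def wt1 : LT := (.node (nat_lit 3) (.node (nat_lit 0) (.leaf 29 4 [nat_lit 78, nat_lit 39, nat_lit 78, nat_lit 13, nat_lit 39, nat_lit 78, nat_lit 39, nat_lit 78])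
(.node (nat_lit 1) (.leaf 25 8 [nat_lit 39, nat_lit 26, nat_lit 13, nat_lit 39, nat_lit 26, nat_lit 13, nat_lit 39, nat_lit 26])
(.node (nat_lit 2) (.leaf 17 0 [nat_lit 65, nat_lit 13, nat_lit 65])
(.leaf 9 3 [nat_lit 0, nat_lit 13, nat_lit 0]))))
(.node (nat_lit 4) (.leaf 3 3 [nat_lit 39, nat_lit 13, nat_lit 39])
(.leaf 0 0 [])))
noncomputable def wt2 : LT := (.node (nat_lit 3) (.node (nat_lit 1) (.node (nat_lit 0) (.leaf 19 0 [nat_lit 65, nat_lit 26, nat_lit 65])
(.leaf 11 3 [nat_lit 0, nat_lit 26, nat_lit 0]))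
(.node (nat_lit 2) (.leaf 33 1 [nat_lit 78, nat_lit 39, nat_lit 78, nat_lit 26, nat_lit 39, nat_lit 78, nat_lit 26, nat_lit 39])
(.leaf 25 7 [nat_lit 13, nat_lit 39, nat_lit 26, nat_lit 13, nat_lit 39, nat_lit 26, nat_lit 13, nat_lit 39])))
(.leaf 0 0 []))
noncomputable def wt3 : LT := (.node (nat_lit 3) (.node (nat_lit 0) (.leaf 33 0 [nat_lit 26, nat_lit 78, nat_lit 39, nat_lit 78, nat_lit 26, nat_lit 39, nat_lit 78, nat_lit 26])
(.node (nat_lit 1) (.leaf 7 0 [nat_lit 65, nat_lit 39, nat_lit 65])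
(.node (nat_lit 2) (.leaf 29 0 [nat_lit 78, nat_lit 39, nat_lit 78, nat_lit 13, nat_lit 78, nat_lit 39, nat_lit 78, nat_lit 13])
(.leaf 1 0 [nat_lit 0, nat_lit 39, nat_lit 0]))))
(.node (nat_lit 5) (.node (nat_lit 4) (.leaf 3 0 [nat_lit 13, nat_lit 39, nat_lit 13])
(.leaf 29 6 [nat_lit 78, nat_lit 13, nat_lit 39, nat_lit 78, nat_lit 39, nat_lit 78, nat_lit 13, nat_lit 78]))
(.leaf 0 0 [])))
noncomputable def wt4 : LT := (.node (nat_lit 1) (.node (nat_lit 0) (.leaf 21 0 [nat_lit 78, nat_lit 52, nat_lit 78])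
(.leaf 15 3 [nat_lit 13, nat_lit 52, nat_lit 13]))
(.node (nat_lit 3) (.node (nat_lit 2) (.leaf 5 3 [nat_lit 39, nat_lit 52, nat_lit 39])
(.leaf 31 1 [nat_lit 26, nat_lit 52, nat_lit 39, nat_lit 26, nat_lit 52, nat_lit 39, nat_lit 26, nat_lit 39]))
(.node (nat_lit 5) (.node (nat_lit 4) (.leaf 35 3 [nat_lit 0, nat_lit 65, nat_lit 52, nat_lit 0, nat_lit 52, nat_lit 0, nat_lit 65, nat_lit 0])
(.leaf 35 6 [nat_lit 0, nat_lit 52, nat_lit 0, nat_lit 65, nat_lit 0, nat_lit 52, nat_lit 0, nat_lit 65]))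
(.node (nat_lit 6) (.leaf 35 8 [nat_lit 0, nat_lit 65, nat_lit 0, nat_lit 52, nat_lit 0, nat_lit 65, nat_lit 52, nat_lit 0])
(.leaf 0 0 [])))))
noncomputable def wt5 : LT := (.node (nat_lit 2) (.node (nat_lit 0) (.leaf 23 0 [nat_lit 78, nat_lit 65, nat_lit 78])
(.node (nat_lit 1) (.leaf 17 3 [nat_lit 13, nat_lit 65, nat_lit 13])
(.leaf 19 3 [nat_lit 26, nat_lit 65, nat_lit 26])))
(.node (nat_lit 4) (.node (nat_lit 3) (.leaf 37 7 [nat_lit 52, nat_lit 0, nat_lit 65, nat_lit 52, nat_lit 0, nat_lit 65, nat_lit 52, nat_lit 0])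
(.leaf 7 3 [nat_lit 39, nat_lit 65, nat_lit 39]))
(.leaf 0 0 [])))
noncomputable def wt6 : LT := (.node (nat_lit 3) (.node (nat_lit 0) (.leaf 33 7 [nat_lit 26, nat_lit 39, nat_lit 26, nat_lit 78, nat_lit 39, nat_lit 78, nat_lit 26, nat_lit 39])
(.node (nat_lit 1) (.leaf 13 3 [nat_lit 0, nat_lit 78, nat_lit 0])
(.node (nat_lit 2) (.leaf 23 3 [nat_lit 65, nat_lit 78, nat_lit 65])
(.leaf 33 4 [nat_lit 26, nat_lit 39, nat_lit 78, nat_lit 26, nat_lit 39, nat_lit 26, nat_lit 78, nat_lit 39]))))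
(.node (nat_lit 6) (.node (nat_lit 4) (.leaf 27 7 [nat_lit 13, nat_lit 39, nat_lit 78, nat_lit 13, nat_lit 39, nat_lit 78, nat_lit 13, nat_lit 39])
(.node (nat_lit 5) (.leaf 29 3 [nat_lit 13, nat_lit 78, nat_lit 39, nat_lit 78, nat_lit 13, nat_lit 39, nat_lit 78, nat_lit 39])
(.leaf 29 1 [nat_lit 39, nat_lit 78, nat_lit 13, nat_lit 78, nat_lit 39, nat_lit 78, nat_lit 13, nat_lit 39])))
(.leaf 0 0 [])))
noncomputable def wt7 : LT := (.node (nat_lit 0) (.leaf 33 7 [nat_lit 26, nat_lit 39, nat_lit 26, nat_lit 78, nat_lit 39, nat_lit 78, nat_lit 26, nat_lit 39, nat_lit 78])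
(.leaf 0 0 []))
noncomputable def sl : List (ℕ × ℕ × List ℕ × List ℕ) := [(0, nat_lit 0, [], []),
(2, nat_lit 13, [], []),
(4, nat_lit 26, [], []),
(6, nat_lit 39, [], []),
(8, nat_lit 52, [], [])]
/-- the inverse column -/
noncomputable def icol (x : ℕ) : ℕ := x
noncomputable def inv (x : ℕ) : ℕ := x
def cols : List ℕ := [nat_lit 91, nat_lit 0, nat_lit 13, nat_lit 26, nat_lit 39, nat_lit 52, nat_lit 65, nat_lit 78]
noncomputable def cl : CL := (.cons (nat_lit 0) (nat_lit 0) (nat_lit 0) (nat_lit 0) wt0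
(.cons (nat_lit 13) (nat_lit 13) (nat_lit 20) (nat_lit 1) wt1
(.cons (nat_lit 26) (nat_lit 26) (nat_lit 40) (nat_lit 2) wt2
(.cons (nat_lit 39) (nat_lit 39) (nat_lit 60) (nat_lit 3) wt3
(.cons (nat_lit 52) (nat_lit 52) (nat_lit 80) (nat_lit 4) wt4
(.cons (nat_lit 65) (nat_lit 65) (nat_lit 100) (nat_lit 5) wt5
(.cons (nat_lit 78) (nat_lit 78) (nat_lit 120) (nat_lit 6) wt6
.nil)))))))
def rels : List (List ℕ) := [[3, 0, 3, 0],
[3, 1, 3, 1],
[3, 4, 3, 4],
[3, 5, 3, 5],
[0, 1, 0, 1],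
[0, 2, 0, 2],
[0, 6, 0, 6],
[1, 4, 1, 4],
[1, 5, 1, 5],
[2, 5, 2, 5],
[4, 6, 4, 6],
[5, 6, 5, 6],
[3, 1, 2, 3, 1, 2, 3, 1, 2],
[3, 1, 6, 3, 1, 6, 3, 1, 6],
[3, 1, 6, 3, 6, 1, 6, 3, 6],
[3, 2, 3, 4, 2, 3, 4, 2, 4],
[3, 2, 6, 3, 2, 6, 3, 6, 2],
[0, 4, 0, 4, 5, 0, 4, 0, 5],
[0, 4, 5, 0, 4, 5, 0, 4, 5]]
def subs : List (List ℕ) := [[0],
[1],
[2],
[3],
[4]]
noncomputable def chk : ℕ → Bool := rowChk row jrow fget sl cols (nat_lit 21) (nat_lit 24) (nat_lit 8191) (nat_lit 31) (nat_lit 8192) (nat_lit 91) (nat_lit 104) (nat_lit 1048575) (nat_lit 6) (nat_lit 63) (nat_lit 5) (nat_lit 31) cl (nat_lit 140) wt7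
theorem p0 : allB chk 13 0 = true := by decide +kernel
theorem all_chk : AllLt chk 24 := by
  have h := AllLt.zero chk
  have h := h.step 24 p0 (by decide +kernel)
  exact h
/-- column `x` of the final table -/
noncomputable def tab (x u : ℕ) : ℕ := ft fget (nat_lit 6) (nat_lit 63) (nat_lit 5) (nat_lit 31) (Nat.mul x (nat_lit 1)) u
theorem enum {G Ω : Type*} [Group G] [MulAction G Ω] (g : ℕ → G) (ω : Ω)
    (hinv : ∀ x, g (icol x) = (g x)⁻¹) (h1 : g 7 = 1)
    (hrels : ∀ R ∈ rels, ev g R = 1) (hsubs : ∀ S ∈ subs, ev g S • ω = ω) :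
    ∃ pt : ℕ → Ω, pt 0 = ω ∧ (∀ K : Subgroup G, (∀ x, g x ∈ K) → ∀ v, ∃ k ∈ K, pt v = k • ω) ∧
      ∀ x, x < 7 → ∀ u, u < 21 → tab x u < 21 ∧ g x • pt u = pt (tab x u) :=
  sound_scaled g ω row jrow fget sl inv icol cols (nat_lit 21) (nat_lit 24) (nat_lit 8191) (nat_lit 31) (nat_lit 8192) (nat_lit 91) (nat_lit 104) (nat_lit 1048575) (nat_lit 6) (nat_lit 63) (nat_lit 5) (nat_lit 31) 5 cl (nat_lit 140) wt7 rels subs 13 (nat_lit 1) 7
    (fun _ => rfl) hinv h1 hrels hsubs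
    (by decide +kernel) (by decide +kernel) all_chk
end H49.ELL1
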