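import Cfsg.Agent.Lib.CosetEnum.TC
set_option autoImplicit false
set_option maxRecDepth 100000
namespace H49.ELT1
open H54 (Tr force band)
open H18.TC
noncomputable def T_0 : Tr := (.node (nat_lit 2) (.node (nat_lit 0) (.leaf (nat_lit 0x55e0af814704bc0e5c1c31137600b40001ab21f66414049e96f41aea49d400780002a1c3adca479135117420f4a07805a00000ff823e8b3b19ec31ec5fb89f80000000053c077c0d781bf03fe07bc0c7c0168000037f097615444bc88fd10f417440258000087606fc39f0312052408f833e000000000ef40ff017f027e03fc05f807f)) (.node (nat_lit 1) (.leaf (nat_lit 0x5a0001fb21daf27604ae17129d2f2666003c00039f13c6281c4f979c7137f07fdc02d000034f26ea1364b1266752f99d475800f00006ca07bc8ff3236eac2077b1370003c0001954aa2a77e85d30b5c97cc3216003c00025eb1b6c38d48bd186c1a72434001680004ada37d4f7b0cbb41dc3cccf37800f0000563473d1fb723e630dc5dda031)) (.leaf (nat_lit 0xb40000d799b728250b46942e4c1b81480168000327465b8eca5a103372a8beee7802d000052b8a7d1eb52a885866ad21792805a000096d5316a92b4fb8e47a1aea749003c0001b8f236e7b58662cc1a9a0b3118016800025364cd6ebb69efb5e16940e98800f00006b428a2de57222e416c8729231800f0000e188eb81def3ee28f8ce781eb6))))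 (.node (nat_lit 4) (.node (nat_lit 3) (.leaf (nat_lit 0x5a00026cdc45d9040cfa670db46d8ea80000000356e6d3cf18628b362d9faad3680168000715eff91d51375e6fb51a51d16801e0000b2696d2bde349468ebd271a42e00b40001f983fa282c93b5600cc59681d0012c0002f995ac6c595752adf05ccabba80078000874d265e6f330f294aec166b6c000f0001097658dc3e77d330a75f1941dd)) (.leaf (nat_lit 0x960002bec551faf315876b8ad59cad4c01680002f655fb4c665f73c064614cc77002d000058c6c065e6d2ce87045245da90804b00013582573cc5b96af39825f44cd6005a00014d533297a389ead41455d864320000000422788411276b2c42e78657069c02580006dd8d985e0f37a271d7454ddb4801e0001527eaac54dfa75b4a4ea14d313))) (.node (nat_lit 5) (.leaf (nat_lit 0x7848e40000000207200000000000216a00f05be8000000014f40000000000016f400f04fe0000000000002fe04fc0000000004b0001494e84ad213a3294b7e88f535f003c000236b48568fa9474e2eb46628f4000b40005055a1a7405675257589f433c5c01680008e29225268b44e18c29159264d800f00012a5e4b349d79737289a46d4f55)) (.leaf (nat_lit 0x5aafa800000000000a9a9579abaa000000f1459000000009ac8000000000009cac025a26e0000842c0000000000086b8000000045d800010a5000032d80000cf618f4005a8cd0000000000005cd000017b400000169cdb95772b9c000000000000000000002d397a29f4583400000000000000000000002cf40000000147a0000000000013fa)))))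
noncomputable def J_0 : Tr := (.node (nat_lit 2) (.node (nat_lit 0) (.leaf (nat_lit 0x40000400000000008000000100100000000000000000000000800800000000000117a00000000000000000000000801800004020020000000000004004000020100b0000000402c00000000000000000408c0000c00004008158040ac02016010010000000400400000000000000000000800000000000000000000002002000030000000000000004000000000000000000000010260080f0040580201c01006)) (.node (nat_lit 1) (.leaf (nat_lit 0x5008008000000000000005000000040cc00008000030000080000402002000080000000400400000000000000000000000000011b2000000000000000e0000100001800000020020000000000000000000000102b0000000400400000000000000000000000006010030000000000002002000000000000000000000000040080080000000000010130000000000000008000080000000400c0200200000)) (.leaf (nat_lit 0x4004020160000200000000000000000000400000004004020060000800000000010000000000000000004004020760102b000000046e8000020000000000004004000040100b00000000000000000000000000000000023440101b00000004004000000100b00000004004000000101300000000020000000000000000000000023540102b0000100400400000000000000000402c0000600001000000000000200200000))))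 (.node (nat_lit 4) (.node (nat_lit 3) (.leaf (nat_lit 0x3008008000100000c0101b0000000400c000000000a0000000000000000010010000000000000000000020080080404c000000101b00000000000000000000300002004004000020000200000004004000040000300000000010000000000000000000000020020100b0000480408c0000a0102b0000000402c0000000001008118000000200200000000000000000000000002008118000240200200000)) (.leaf (nat_lit 0x1002002000010000080408c00004000030000000400400002010030000000000000000010030000000400400000000070081d80000000000000000000000400c02002000010000180000000008000000000000000000000000070080080404c0000000000000000000040000a000010000000000002026010010000000001802002000070000000000c00000000050000000000c0000000002000020040040202600002))) (.node (nat_lit 5) (.leaf (nat_lit 0x180000000000010010000000000000000010330000100000000000010010000000000000000000010000080000000000000000000100400400000000000000000001002002000010000080000000004000000000000000c0001200004000000040040000600000000000000080000000005008008000000000200006000000000000000000005008008000000000200003000000000200204600001000000000280200200000))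 (.leaf (nat_lit 0x81d8000000000000000008008040cc0000000000000038000000000001001000000000000000001003000028000000200200000000000000000000800000008158000000000000000008198000000200601001d08028000000000000000008008000000200600000c492e00400400002000000000000000000000000000000480400400000000000000000000000000000000080d8000000000000009000000000000000001001)))))
noncomputable def F_0 : Tr := (.node (nat_lit 2) (.node (nat_lit 0) (.leaf (nat_lit 0x207e892a6637a99985acae54915d59e26e168d2dd70930850f4c640e10a1470420c0)) (.node (nat_lit 1) (.leaf (nat_lit 0x2175e6e58d9a179d4b164aaadca5a98d9205624df44f4076092c630438a0880c5040)) (.leaf (nat_lit 0x20a67ad9a9b75f5d852c91295098fa228cd32129e25c68e5951934481cb1440c2040)))) (.node (nat_lit 4) (.node (nat_lit 3) (.leaf (nat_lit 0x2bb1b7a48985e85277525a985ca9a36695f5634e044e1d06482c510c3c22890c6040)) (.leaf (nat_lit 0x2caeaa689e69648e28607de75c6da6585d65544d24503ce34c2ca2481c61440c2040))) (.node (nat_lit 5) (.leaf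 (nat_lit 0x2aa6cad982599859f7a78a16da75ca243632d24544cf40e5c65492851cc2020c4001)) (.leaf (nat_lit 0x2ca6aae89da71f5584e09114253e666230b8ca84979d6ce1975944880cd1411c0102)))))
noncomputable def T : Tr := T_0
noncomputable def J : Tr := J_0
noncomputable def F : Tr := F_0
noncomputable def row (u : ℕ) : ℕ := Nat.land (Nat.shiftRight (force (Nat.shiftRight u (nat_lit 3)) T.get) (Nat.mul (Nat.land u (nat_lit 7)) (nat_lit 135))) (nat_lit 0x7fffffffffffffffffffffffffffffffff)
noncomputable def jrow (u : ℕ) : ℕ := Nat.land (Nat.shiftRight (force (Nat.shiftRight u (nat_lit 3)) J.get) (Nat.mul (Nat.land u (nat_lit 7)) (nat_lit 168))) (nat_lit 0xffffffffffffffffffffffffffffffffffffffffff)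
noncomputable def fget (k fx : ℕ) : ℕ := F.get (Nat.add k fx)
noncomputable def wt0 : LT := (.node (nat_lit 7) (.node (nat_lit 2) (.node (nat_lit 0) (.leaf 3 2 [nat_lit 60, nat_lit 90, nat_lit 15, nat_lit 45, nat_lit 60, nat_lit 0, nat_lit 45, nat_lit 90])
(.node (nat_lit 1) (.leaf 1 3 [nat_lit 30, nat_lit 15, nat_lit 45, nat_lit 30, nat_lit 0, nat_lit 45, nat_lit 30, nat_lit 45])
(.leaf 15 0 [nat_lit 75, nat_lit 60, nat_lit 0, nat_lit 75, nat_lit 60, nat_lit 0, nat_lit 75, nat_lit 60])))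
(.node (nat_lit 4) (.node (nat_lit 3) (.leaf 21 11 [nat_lit 45, nat_lit 30, nat_lit 75, nat_lit 90, nat_lit 45, nat_lit 90, nat_lit 45, nat_lit 15, nat_lit 90, nat_lit 30, nat_lit 45, nat_lit 90])
(.leaf 3 8 [nat_lit 45, nat_lit 90, nat_lit 0, nat_lit 60, nat_lit 90, nat_lit 15, nat_lit 45, nat_lit 60]))
(.node (nat_lit 5) (.leaf 1 8 [nat_lit 45, nat_lit 30, nat_lit 45, nat_lit 0, nat_lit 30, nat_lit 15, nat_lit 45, nat_lit 30])
(.node (nat_lit 6) (.leaf 5 4 [nat_lit 60, nat_lit 45, nat_lit 60, nat_lit 0, nat_lit 45, nat_lit 75, nat_lit 15, nat_lit 75])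
(.leaf 5 8 [nat_lit 45, nat_lit 75, nat_lit 15, nat_lit 75, nat_lit 0, nat_lit 60, nat_lit 45, nat_lit 60])))))
(.leaf 0 0 []))
noncomputable def wt1 : LT := (.node (nat_lit 4) (.node (nat_lit 0) (.leaf 1 5 [nat_lit 45, nat_lit 30, nat_lit 0, nat_lit 45, nat_lit 30, nat_lit 45, nat_lit 0, nat_lit 30])
(.node (nat_lit 1) (.leaf 5 2 [nat_lit 75, nat_lit 0, nat_lit 60, nat_lit 45, nat_lit 60, nat_lit 0, nat_lit 45, nat_lit 75])
(.node (nat_lit 2) (.leaf 17 7 [nat_lit 30, nat_lit 15, nat_lit 90, nat_lit 15, nat_lit 30, nat_lit 15, nat_lit 90, nat_lit 30])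
(.node (nat_lit 3) (.leaf 9 2 [nat_lit 75, nat_lit 15, nat_lit 30, nat_lit 45, nat_lit 75, nat_lit 15, nat_lit 45, nat_lit 30])
(.leaf 9 4 [nat_lit 30, nat_lit 45, nat_lit 75, nat_lit 15, nat_lit 45, nat_lit 30, nat_lit 15, nat_lit 75])))))
(.node (nat_lit 5) (.leaf 11 8 [nat_lit 45, nat_lit 30, nat_lit 90, nat_lit 75, nat_lit 90, nat_lit 30, nat_lit 45, nat_lit 75])
(.leaf 0 0 [])))
noncomputable def wt2 : LT := (.node (nat_lit 8) (.node (nat_lit 2) (.node (nat_lit 0) (.leaf 17 3 [nat_lit 15, nat_lit 90, nat_lit 30, nat_lit 15, nat_lit 30, nat_lit 15, nat_lit 90, nat_lit 15])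
(.node (nat_lit 1) (.leaf 17 6 [nat_lit 15, nat_lit 30, nat_lit 15, nat_lit 90, nat_lit 15, nat_lit 30, nat_lit 15, nat_lit 90])
(.leaf 21 8 [nat_lit 45, nat_lit 90, nat_lit 0, nat_lit 45, nat_lit 30, nat_lit 75, nat_lit 90, nat_lit 45, nat_lit 90, nat_lit 45, nat_lit 15, nat_lit 90])))
(.node (nat_lit 4) (.node (nat_lit 3) (.leaf 11 1 [nat_lit 90, nat_lit 75, nat_lit 90, nat_lit 30, nat_lit 45, nat_lit 75, nat_lit 15, nat_lit 45])
(.leaf 21 0 [nat_lit 75, nat_lit 90, nat_lit 45, nat_lit 90, nat_lit 45, nat_lit 15, nat_lit 90, nat_lit 30, nat_lit 45, nat_lit 90, nat_lit 0, nat_lit 45]))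
(.node (nat_lit 6) (.node (nat_lit 5) (.leaf 1 1 [nat_lit 45, nat_lit 0, nat_lit 30, nat_lit 15, nat_lit 45, nat_lit 30, nat_lit 0, nat_lit 45])
(.leaf 9 5 [nat_lit 45, nat_lit 75, nat_lit 15, nat_lit 45, nat_lit 30, nat_lit 15, nat_lit 75, nat_lit 15]))
(.node (nat_lit 7) (.leaf 1 4 [nat_lit 15, nat_lit 45, nat_lit 30, nat_lit 0, nat_lit 45, nat_lit 30, nat_lit 45, nat_lit 0])
(.leaf 19 14 [nat_lit 45, nat_lit 90, nat_lit 30, nat_lit 45, nat_lit 90, nat_lit 30, nat_lit 45, nat_lit 90, nat_lit 30, nat_lit 45, nat_lit 90, nat_lit 30, nat_lit 45, nat_lit 90])))))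
(.node (nat_lit 9) (.leaf 17 8 [nat_lit 15, nat_lit 90, nat_lit 15, nat_lit 30, nat_lit 15, nat_lit 90, nat_lit 30, nat_lit 15])
(.leaf 0 0 [])))
noncomputable def wt3 : LT := (.node (nat_lit 8) (.node (nat_lit 2) (.node (nat_lit 0) (.leaf 5 0 [nat_lit 75, nat_lit 15, nat_lit 75, nat_lit 0, nat_lit 60, nat_lit 45, nat_lit 60, nat_lit 0])
(.node (nat_lit 1) (.leaf 9 0 [nat_lit 30, nat_lit 15, nat_lit 75, nat_lit 15, nat_lit 30, nat_lit 45, nat_lit 75, nat_lit 15])
(.leaf 9 6 [nat_lit 75, nat_lit 15, nat_lit 45, nat_lit 30, nat_lit 15, nat_lit 75, nat_lit 15, nat_lit 30])))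
(.node (nat_lit 4) (.node (nat_lit 3) (.leaf 1 0 [nat_lit 30, nat_lit 45, nat_lit 0, nat_lit 30, nat_lit 15, nat_lit 45, nat_lit 30, nat_lit 0])
(.leaf 21 5 [nat_lit 15, nat_lit 90, nat_lit 30, nat_lit 45, nat_lit 90, nat_lit 0, nat_lit 45, nat_lit 30, nat_lit 75, nat_lit 90, nat_lit 45, nat_lit 90]))
(.node (nat_lit 6) (.node (nat_lit 5) (.leaf 5 6 [nat_lit 60, nat_lit 0, nat_lit 45, nat_lit 75, nat_lit 15, nat_lit 75, nat_lit 0, nat_lit 60])
(.leaf 1 2 [nat_lit 0, nat_lit 30, nat_lit 15, nat_lit 45, nat_lit 30, nat_lit 0, nat_lit 45, nat_lit 30]))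
(.node (nat_lit 7) (.leaf 21 9 [nat_lit 90, nat_lit 0, nat_lit 45, nat_lit 30, nat_lit 75, nat_lit 90, nat_lit 45, nat_lit 90, nat_lit 45, nat_lit 15, nat_lit 90, nat_lit 30])
(.leaf 1 6 [nat_lit 30, nat_lit 0, nat_lit 45, nat_lit 30, nat_lit 45, nat_lit 0, nat_lit 30, nat_lit 15])))))
(.leaf 0 0 []))
noncomputable def wt4 : LT := (.node (nat_lit 3) (.node (nat_lit 1) (.node (nat_lit 0) (.leaf 7 7 [nat_lit 15, nat_lit 45, nat_lit 60, nat_lit 90, nat_lit 75, nat_lit 90, nat_lit 45, nat_lit 75])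
(.leaf 3 3 [nat_lit 90, nat_lit 15, nat_lit 45, nat_lit 60, nat_lit 0, nat_lit 45, nat_lit 90, nat_lit 0]))
(.node (nat_lit 2) (.leaf 13 6 [nat_lit 0, nat_lit 60, nat_lit 0, nat_lit 75, nat_lit 0, nat_lit 60, nat_lit 0, nat_lit 75])
(.leaf 13 3 [nat_lit 0, nat_lit 75, nat_lit 60, nat_lit 0, nat_lit 60, nat_lit 0, nat_lit 75, nat_lit 0])))
(.node (nat_lit 9) (.node (nat_lit 5) (.node (nat_lit 4) (.leaf 5 5 [nat_lit 45, nat_lit 60, nat_lit 0, nat_lit 45, nat_lit 75, nat_lit 15, nat_lit 75, nat_lit 0])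
(.leaf 3 7 [nat_lit 0, nat_lit 45, nat_lit 90, nat_lit 0, nat_lit 60, nat_lit 90, nat_lit 15, nat_lit 45]))
(.node (nat_lit 6) (.leaf 13 8 [nat_lit 0, nat_lit 75, nat_lit 0, nat_lit 60, nat_lit 0, nat_lit 75, nat_lit 60, nat_lit 0])
(.node (nat_lit 7) (.leaf 7 1 [nat_lit 90, nat_lit 75, nat_lit 90, nat_lit 45, nat_lit 75, nat_lit 60, nat_lit 15, nat_lit 45])
(.node (nat_lit 8) (.leaf 5 7 [nat_lit 0, nat_lit 45, nat_lit 75, nat_lit 15, nat_lit 75, nat_lit 0, nat_lit 60, nat_lit 45])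
(.leaf 15 8 [nat_lit 0, nat_lit 75, nat_lit 60, nat_lit 0, nat_lit 75, nat_lit 60, nat_lit 0, nat_lit 75])))))
(.leaf 0 0 [])))
noncomputable def wt5 : LT := (.node (nat_lit 6) (.node (nat_lit 1) (.node (nat_lit 0) (.leaf 11 3 [nat_lit 90, nat_lit 30, nat_lit 45, nat_lit 75, nat_lit 15, nat_lit 45, nat_lit 30, nat_lit 90])
(.leaf 7 3 [nat_lit 90, nat_lit 45, nat_lit 75, nat_lit 60, nat_lit 15, nat_lit 45, nat_lit 60, nat_lit 90]))
(.node (nat_lit 3) (.node (nat_lit 2) (.leaf 11 7 [nat_lit 15, nat_lit 45, nat_lit 30, nat_lit 90, nat_lit 75, nat_lit 90, nat_lit 30, nat_lit 45])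
(.leaf 9 3 [nat_lit 15, nat_lit 30, nat_lit 45, nat_lit 75, nat_lit 15, nat_lit 45, nat_lit 30, nat_lit 15]))
(.node (nat_lit 4) (.leaf 5 1 [nat_lit 15, nat_lit 75, nat_lit 0, nat_lit 60, nat_lit 45, nat_lit 60, nat_lit 0, nat_lit 45])
(.node (nat_lit 5) (.leaf 15 7 [nat_lit 60, nat_lit 0, nat_lit 75, nat_lit 60, nat_lit 0, nat_lit 75, nat_lit 60, nat_lit 0])
(.leaf 9 7 [nat_lit 15, nat_lit 45, nat_lit 30, nat_lit 15, nat_lit 75, nat_lit 15, nat_lit 30, nat_lit 45])))))
(.node (nat_lit 8) (.node (nat_lit 7) (.leaf 21 1 [nat_lit 90, nat_lit 45, nat_lit 90, nat_lit 45, nat_lit 15, nat_lit 90, nat_lit 30, nat_lit 45, nat_lit 90, nat_lit 0, nat_lit 45, nat_lit 30])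
(.leaf 5 3 [nat_lit 0, nat_lit 60, nat_lit 45, nat_lit 60, nat_lit 0, nat_lit 45, nat_lit 75, nat_lit 15]))
(.leaf 0 0 [])))
noncomputable def wt6 : LT := (.node (nat_lit 7) (.node (nat_lit 1) (.node (nat_lit 0) (.leaf 21 10 [nat_lit 0, nat_lit 45, nat_lit 30, nat_lit 75, nat_lit 90, nat_lit 45, nat_lit 90, nat_lit 45, nat_lit 15, nat_lit 90, nat_lit 30, nat_lit 45])
(.leaf 21 4 [nat_lit 45, nat_lit 15, nat_lit 90, nat_lit 30, nat_lit 45, nat_lit 90, nat_lit 0, nat_lit 45, nat_lit 30, nat_lit 75, nat_lit 90, nat_lit 45]))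
(.node (nat_lit 3) (.node (nat_lit 2) (.leaf 17 5 [nat_lit 30, nat_lit 15, nat_lit 30, nat_lit 15, nat_lit 90, nat_lit 15, nat_lit 30, nat_lit 15])
(.leaf 7 4 [nat_lit 45, nat_lit 75, nat_lit 60, nat_lit 15, nat_lit 45, nat_lit 60, nat_lit 90, nat_lit 75]))
(.node (nat_lit 5) (.node (nat_lit 4) (.leaf 3 4 [nat_lit 15, nat_lit 45, nat_lit 60, nat_lit 0, nat_lit 45, nat_lit 90, nat_lit 0, nat_lit 60])
(.leaf 11 2 [nat_lit 75, nat_lit 90, nat_lit 30, nat_lit 45, nat_lit 75, nat_lit 15, nat_lit 45, nat_lit 30]))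
(.node (nat_lit 6) (.leaf 19 13 [nat_lit 30, nat_lit 45, nat_lit 90, nat_lit 30, nat_lit 45, nat_lit 90, nat_lit 30, nat_lit 45, nat_lit 90, nat_lit 30, nat_lit 45, nat_lit 90, nat_lit 30, nat_lit 45])
(.leaf 17 1 [nat_lit 15, nat_lit 30, nat_lit 15, nat_lit 90, nat_lit 30, nat_lit 15, nat_lit 30, nat_lit 15])))))
(.leaf 0 0 []))
noncomputable def wt7 : LT := (.node (nat_lit 6) (.node (nat_lit 2) (.node (nat_lit 0) (.leaf 7 4 [nat_lit 45, nat_lit 75, nat_lit 60, nat_lit 15, nat_lit 45, nat_lit 60, nat_lit 90, nat_lit 75, nat_lit 90])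
(.node (nat_lit 1) (.leaf 13 1 [nat_lit 0, nat_lit 60, nat_lit 0, nat_lit 75, nat_lit 60, nat_lit 0, nat_lit 60, nat_lit 0, nat_lit 75])
(.leaf 2 1 [nat_lit 0, nat_lit 60, nat_lit 45, nat_lit 15, nat_lit 90, nat_lit 60, nat_lit 0, nat_lit 90, nat_lit 45])))
(.node (nat_lit 4) (.node (nat_lit 3) (.leaf 7 0 [nat_lit 60, nat_lit 90, nat_lit 75, nat_lit 90, nat_lit 45, nat_lit 75, nat_lit 60, nat_lit 15, nat_lit 45])
(.leaf 1 4 [nat_lit 15, nat_lit 45, nat_lit 30, nat_lit 0, nat_lit 45, nat_lit 30, nat_lit 45, nat_lit 0, nat_lit 30]))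
(.node (nat_lit 5) (.leaf 8 2 [nat_lit 75, nat_lit 45, nat_lit 30, nat_lit 15, nat_lit 75, nat_lit 15, nat_lit 30, nat_lit 45, nat_lit 15])
(.leaf 21 10 [nat_lit 0, nat_lit 45, nat_lit 30, nat_lit 75, nat_lit 90, nat_lit 45, nat_lit 90, nat_lit 45, nat_lit 15, nat_lit 90, nat_lit 30, nat_lit 45, nat_lit 90]))))
(.node (nat_lit 8) (.node (nat_lit 7) (.leaf 9 7 [nat_lit 15, nat_lit 45, nat_lit 30, nat_lit 15, nat_lit 75, nat_lit 15, nat_lit 30, nat_lit 45, nat_lit 75])
(.leaf 19 0 [nat_lit 90, nat_lit 30, nat_lit 45, nat_lit 90, nat_lit 30, nat_lit 45, nat_lit 90, nat_lit 30, nat_lit 45, nat_lit 90, nat_lit 30, nat_lit 45, nat_lit 90, nat_lit 30, nat_lit 45]))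
(.leaf 0 0 [])))
noncomputable def sl : List (ℕ × ℕ × List ℕ × List ℕ) := [(0, nat_lit 0, [], []),
(2, nat_lit 15, [], []),
(4, nat_lit 30, [], []),
(6, nat_lit 45, [], []),
(8, nat_lit 60, [], [])]
/-- the inverse column -/
noncomputable def icol (x : ℕ) : ℕ := x
noncomputable def inv (x : ℕ) : ℕ := x
def cols : List ℕ := [nat_lit 105, nat_lit 0, nat_lit 15, nat_lit 30, nat_lit 45, nat_lit 60, nat_lit 75, nat_lit 90]
noncomputable def cl : CL := (.cons (nat_lit 0) (nat_lit 0) (nat_lit 0) (nat_lit 0) wt0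
(.cons (nat_lit 15) (nat_lit 15) (nat_lit 21) (nat_lit 1) wt1
(.cons (nat_lit 30) (nat_lit 30) (nat_lit 42) (nat_lit 2) wt2
(.cons (nat_lit 45) (nat_lit 45) (nat_lit 63) (nat_lit 3) wt3
(.cons (nat_lit 60) (nat_lit 60) (nat_lit 84) (nat_lit 4) wt4
(.cons (nat_lit 75) (nat_lit 75) (nat_lit 105) (nat_lit 5) wt5
(.cons (nat_lit 90) (nat_lit 90) (nat_lit 126) (nat_lit 6) wt6
.nil)))))))
def rels : List (List ℕ) := [[3, 0, 2, 3, 1, 2, 0, 3, 2],
[3, 0, 4, 3, 1, 6, 4, 0, 6],
[3, 0, 4, 3, 4, 0, 5, 1, 5],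
[3, 1, 4, 5, 3, 6, 5, 6, 4],
[3, 1, 5, 3, 2, 1, 5, 1, 2],
[3, 1, 5, 3, 2, 6, 5, 6, 2],
[0, 4, 0, 4, 5, 0, 4, 0, 5],
[0, 4, 5, 0, 4, 5, 0, 4, 5],
[1, 2, 1, 2, 6, 1, 2, 1, 6],
[3, 2, 6, 3, 2, 6, 3, 2, 6, 3, 2, 6, 3, 2, 6],
[2, 3, 0, 6, 3, 2, 6, 1, 3, 6, 3, 6, 5]]
def subs : List (List ℕ) := [[0],
[1],
[2],
[3],
[4]]
noncomputable def chk : ℕ → Bool := rowChk row jrow fget sl cols (nat_lit 45) (nat_lit 56) (nat_lit 32767) (nat_lit 63) (nat_lit 32768) (nat_lit 105) (nat_lit 120) (nat_lit 2097151) (nat_lit 6) (nat_lit 63) (nat_lit 6) (nat_lit 63) cl (nat_lit 147) wt7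
theorem p0 : allB chk 13 0 = true := by decide +kernel
theorem all_chk : AllLt chk 56 := by
  have h := AllLt.zero chk
  have h := h.step 56 p0 (by decide +kernel)
  exact h
/-- column `x` of the final table -/
noncomputable def tab (x u : ℕ) : ℕ := ft fget (nat_lit 6) (nat_lit 63) (nat_lit 6) (nat_lit 63) (Nat.mul x (nat_lit 1)) u
theorem enum {G Ω : Type*} [Group G] [MulAction G Ω] (g : ℕ → G) (ω : Ω)
    (hinv : ∀ x, g (icol x) = (g x)⁻¹) (h1 : g 7 = 1)
    (hrels : ∀ R ∈ rels, ev g R = 1) (hsubs : ∀ S ∈ subs, ev g S • ω = ω) :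
    ∃ pt : ℕ → Ω, pt 0 = ω ∧ (∀ K : Subgroup G, (∀ x, g x ∈ K) → ∀ v, ∃ k ∈ K, pt v = k • ω) ∧
      ∀ x, x < 7 → ∀ u, u < 45 → tab x u < 45 ∧ g x • pt u = pt (tab x u) :=
  sound_scaled g ω row jrow fget sl inv icol cols (nat_lit 45) (nat_lit 56) (nat_lit 32767) (nat_lit 63) (nat_lit 32768) (nat_lit 105) (nat_lit 120) (nat_lit 2097151) (nat_lit 6) (nat_lit 63) (nat_lit 6) (nat_lit 63) 6 cl (nat_lit 147) wt7 rels subs 15 (nat_lit 1) 7
    (fun _ => rfl) hinv h1 hrels hsubs
    (by decide +kernel) (by decide +kernel) all_chk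
end H49.ELT1
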