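import Cfsg.Agent.Lib.CosetEnum.TC
set_option autoImplicit false
set_option maxRecDepth 100000
namespace H49.ETT1
open H54 (Tr force band)
open H18.TC
noncomputable def T_0 : Tr := (.node (nat_lit 2) (.node (nat_lit 0) (.leaf (nat_lit 0x7e890785b9ac1c08a812711ef600b40001fb217e667e455e98f41c6a5e2400780002a9825dc43d0d7511741ff447d005a0000164831e87bb18ec1dec4fb8fb80000000086804bc279c4d3c768847c07fc016800002bf0cf60df457c83bd10740cf402580000e7606fc13f06be0a2408f821e000000000bf40ff017f027e03fc05f807f)) (.node (nat_lit 1) (.leaf (nat_lit 0xb400017d230ef7b60c0e29f2b12f63e60000000168a2562fbc567792f1247046dc02d00003ef28da0ff950e641d2e39d0f5802d00008aa05dc9a33166e6ba867b31b0003c00010349baa69e864d0c5c99b43a5800b4000216b1b6c65d469d1c6c1cf260200168000535a37d4d3b0c3b3c5c32cd697804b0000582c49d0a3716e629dc4dd91f1)) (.leaf (nat_lit 0xb40001139a33245d0c9691ee3a1b5ec80168000203449b8d4a5a5020b28a3e997800f000048b86dd1ab51b2a35666faa992805a000084d5576a22b4ab89b79bcea1b2003c00013af1eee6b5872b0e1a9dac39e8016800029765556a7b624faa2167c0af8800f000051427ab1b171e6e3bec7cbab31805a0000b0898583def5963558d8b82d76))))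 (.node (nat_lit 4) (.node (nat_lit 3) (.leaf (nat_lit 0x1e0001dedb71d6840d1a5dadb3ad83a80168000286e51bcd985e8b2a6d8e2acc68016800058debb91f112b1e65b503515d6801e0001566ab72d7a3ad4754bebb1d62e009600017f82ea27d491a5672cbcd65e5000000005419ae475396a52d3b0a6cb4ba800f0000a34d445e95350b29f2f476680c001e00012875d4db9a79bb2e075c59395d)) (.leaf (nat_lit 0x3c000258c495f95b1237642aca5ca0cc00b400054659d3549666d3ce24a44d3c700168000abc73b666ad32286545305d9b0800f0000ee81d33badb98aeec81cf43c56003c000121524a96d3894ad1d44a989eb2012c00049e76dc0df7648c38676ed6e49c00000004e58a485aef2b624d570c4d314801e0001187e4cc45df88db0f4e274c553))) (.node (nat_lit 5) (.leaf (nat_lit 0xb4b6e085e0000299a000089c00000000007971e1038000000007888ebc0000000000f06fe0bf60000000055209fc0000000002d00010e4e40ac35384a9107e16f459f003c000200b415684290a4dfcb40a2834000b400047558fa71e5633248988dc32e5c000000080a90451f2b3d617fa8f291e0d80000001345e8b34cd799373f9a5ed4b55)) (.leaf (nat_lit 0x97e400000000000000000018492fea00012da800000000000000000000005de402d27f12ce20000000000000000000b65805a4f6e57dcea6000000000000000170a00b4a0e8a9d00000000000000000002b180169f9c144e0000524000000000000000001e3f7c000000009de000000005038000002d5cf800000000000267800000000000)))))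
noncomputable def J_0 : Tr := (.node (nat_lit 2) (.node (nat_lit 0) (.leaf (nat_lit 0x400c000080117a0000000000000000010010000000000000000000050080080000000006000000000000000000000000030000000000802002000020000000400400002010030000000400c0000000000000000000000000800000000000000000000201001000000040040000000001000000000040000000001000000045a802002000020000280000000008000000000000000000000010260080f0040580201c01006)) (.node (nat_lit 1) (.leaf (nat_lit 0x4004000000000a008098000000202600000000000000000000c0102b0000000000800002010010000000400400000000010000000000000000000000000000000002016000020080080000000000000020000000000000000000060000080400400004000000000000000000004000070080080000000000000000000000000000000000020080080000002026000060000000000002002000020000000402c0000800000)) (.leaf (nat_lit 0x40040000200001000000000000000000000000000040040000000001000000000040000000000000000000000000600002000008040040001400000000000040040000000001000000000000000000001000000000000000000004000008040040001600004000000040040000e00001000000000040000000000000000000000000600002000008040040201600000000000040040201600005000018000000000000000))))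 (.node (nat_lit 4) (.node (nat_lit 3) (.leaf (nat_lit 0x30000380000002002000000000000400402006000010080580000000000000030000000000000000000010080080000000000010230000000001000006000040000080400402016000030000000000002002000050000000000000000000070000000000400000000030000100000c0000201001000000000080000600004000020040040000e00003000000000000000000008000000040040000a00000)) (.leaf (nat_lit 0x40ec0000a00004000020040040000a000000000000000000004000070080080001c00000000050000000000000000000080080080001400000000000000000000c0001000003000040000180200200000000000000080000a000010000100400400000000000000000001c02002000020000000000000018000020000000400c00000000010000000404c00000010010000000000c0000000004000008040040000e00004))) (.node (nat_lit 5) (.leaf (nat_lit 0x20040040000000000000000000100000000000bc96a80000000000000000081580400400000000000000080000000000000000000080400400000000000000000408c0000000009008008000000000c00000000000000100000000002000000040040000400008000000000180209600006008008000000000c00000000000000000001200003000000000000000201001000000000240000000009000000000000000201001))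 (.leaf (nat_lit 0xd88028000000000000000000000000000001201001008058000000000000000000000000000000001001d08020040040000000000000000000000000000001000018040040000200000000000000000000000000d092e0040040000000000000000000000000000001008118040040000000001000000000000000000000c896a0000000000001001000000000000001000000b88b68000000000000000008008000000000000000)))))
noncomputable def F_0 : Tr := (.node (nat_lit 2) (.node (nat_lit 0) (.leaf (nat_lit 0x207e892a6637a99985acae54915d59e26e168d2dd70930850f4c640e10a1470420c0)) (.node (nat_lit 1) (.leaf (nat_lit 0x2175e6e58d9a179d4b164aaadca5a98d9205624df44f4076092c630438a0880c5040)) (.leaf (nat_lit 0x20a67ad9a9b75f5d852c91295098fa228cd32129e25c68e5951934481cb1440c2040)))) (.node (nat_lit 4) (.node (nat_lit 3) (.leaf (nat_lit 0x2bb1b7a48985e85277525a985ca9a36695f5634e044e1d06482c510c3c22890c6040)) (.leaf (nat_lit 0x2caeaa689e69648e28607de75c6da6585d65544d24503ce34c2ca2481c61440c2040))) (.node (nat_lit 5)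 (.leaf (nat_lit 0x2aa6cad982599859f7a78a16da75ca243632d24544cf40e5c65492851cc2020c4001)) (.leaf (nat_lit 0x2ca6aae89da71f5584e09114253e666230b8ca84979d6ce1975944880cd1411c0102)))))
noncomputable def T : Tr := T_0
noncomputable def J : Tr := J_0
noncomputable def F : Tr := F_0
noncomputable def row (u : ℕ) : ℕ := Nat.land (Nat.shiftRight (force (Nat.shiftRight u (nat_lit 3)) T.get) (Nat.mul (Nat.land u (nat_lit 7)) (nat_lit 135))) (nat_lit 0x7fffffffffffffffffffffffffffffffff)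
noncomputable def jrow (u : ℕ) : ℕ := Nat.land (Nat.shiftRight (force (Nat.shiftRight u (nat_lit 3)) J.get) (Nat.mul (Nat.land u (nat_lit 7)) (nat_lit 168))) (nat_lit 0xffffffffffffffffffffffffffffffffffffffffff)
noncomputable def fget (k fx : ℕ) : ℕ := F.get (Nat.add k fx)
noncomputable def wt0 : LT := (.node (nat_lit 4) (.node (nat_lit 1) (.node (nat_lit 0) (.leaf 5 3 [nat_lit 90, nat_lit 30, nat_lit 0, nat_lit 30, nat_lit 90])
(.leaf 1 0 [nat_lit 60, nat_lit 15, nat_lit 60, nat_lit 0, nat_lit 15]))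
(.node (nat_lit 2) (.leaf 5 0 [nat_lit 30, nat_lit 90, nat_lit 0, nat_lit 90, nat_lit 30])
(.node (nat_lit 3) (.leaf 27 8 [nat_lit 30, nat_lit 45, nat_lit 30, nat_lit 15, nat_lit 0, nat_lit 30, nat_lit 45, nat_lit 30, nat_lit 15])
(.leaf 41 11 [nat_lit 45, nat_lit 30, nat_lit 75, nat_lit 90, nat_lit 45, nat_lit 90, nat_lit 45, nat_lit 15, nat_lit 90, nat_lit 30, nat_lit 45, nat_lit 90]))))
(.node (nat_lit 7) (.node (nat_lit 5) (.leaf 29 2 [nat_lit 75, nat_lit 90, nat_lit 45, nat_lit 30, nat_lit 75, nat_lit 0, nat_lit 30, nat_lit 45, nat_lit 90])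
(.node (nat_lit 6) (.leaf 7 0 [nat_lit 75, nat_lit 0, nat_lit 75, nat_lit 0, nat_lit 75])
(.leaf 3 0 [nat_lit 75, nat_lit 15, nat_lit 75, nat_lit 0, nat_lit 15])))
(.leaf 0 0 [])))
noncomputable def wt1 : LT := (.node (nat_lit 4) (.node (nat_lit 1) (.node (nat_lit 0) (.leaf 1 5 [nat_lit 0, nat_lit 60, nat_lit 15, nat_lit 60, nat_lit 0])
(.leaf 31 8 [nat_lit 30, nat_lit 45, nat_lit 90, nat_lit 15, nat_lit 30, nat_lit 15, nat_lit 90, nat_lit 45, nat_lit 30]))
(.node (nat_lit 2) (.leaf 17 9 [nat_lit 45, nat_lit 90, nat_lit 45, nat_lit 75, nat_lit 15, nat_lit 45, nat_lit 90, nat_lit 45, nat_lit 75])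
(.node (nat_lit 3) (.leaf 3 2 [nat_lit 75, nat_lit 0, nat_lit 15, nat_lit 0, nat_lit 75])
(.leaf 31 2 [nat_lit 30, nat_lit 15, nat_lit 90, nat_lit 45, nat_lit 30, nat_lit 15, nat_lit 30, nat_lit 45, nat_lit 90]))))
(.node (nat_lit 11) (.node (nat_lit 6) (.node (nat_lit 5) (.leaf 15 9 [nat_lit 45, nat_lit 15, nat_lit 30, nat_lit 45, nat_lit 90, nat_lit 30, nat_lit 90, nat_lit 45, nat_lit 30])
(.leaf 15 1 [nat_lit 30, nat_lit 45, nat_lit 90, nat_lit 30, nat_lit 90, nat_lit 45, nat_lit 30, nat_lit 15, nat_lit 45]))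
(.node (nat_lit 8) (.node (nat_lit 7) (.leaf 1 2 [nat_lit 60, nat_lit 0, nat_lit 15, nat_lit 0, nat_lit 60])
(.leaf 3 5 [nat_lit 0, nat_lit 75, nat_lit 15, nat_lit 75, nat_lit 0]))
(.node (nat_lit 9) (.leaf 13 9 [nat_lit 45, nat_lit 75, nat_lit 30, nat_lit 45, nat_lit 30, nat_lit 15, nat_lit 75, nat_lit 45, nat_lit 30])
(.node (nat_lit 10) (.leaf 27 7 [nat_lit 0, nat_lit 30, nat_lit 45, nat_lit 30, nat_lit 15, nat_lit 0, nat_lit 30, nat_lit 45, nat_lit 30])
(.leaf 11 0 [nat_lit 75, nat_lit 60, nat_lit 15, nat_lit 75, nat_lit 60])))))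
(.leaf 0 0 [])))
noncomputable def wt2 : LT := (.node (nat_lit 6) (.node (nat_lit 1) (.node (nat_lit 0) (.leaf 15 5 [nat_lit 90, nat_lit 45, nat_lit 30, nat_lit 15, nat_lit 45, nat_lit 15, nat_lit 30, nat_lit 45, nat_lit 90])
(.leaf 31 3 [nat_lit 15, nat_lit 90, nat_lit 45, nat_lit 30, nat_lit 15, nat_lit 30, nat_lit 45, nat_lit 90, nat_lit 15]))
(.node (nat_lit 3) (.node (nat_lit 2) (.leaf 5 5 [nat_lit 0, nat_lit 30, nat_lit 90, nat_lit 0, nat_lit 90])
(.leaf 5 1 [nat_lit 90, nat_lit 0, nat_lit 90, nat_lit 30, nat_lit 0]))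
(.node (nat_lit 4) (.leaf 23 9 [nat_lit 45, nat_lit 90, nat_lit 75, nat_lit 30, nat_lit 75, nat_lit 90, nat_lit 45, nat_lit 30, nat_lit 45])
(.node (nat_lit 5) (.leaf 31 7 [nat_lit 15, nat_lit 30, nat_lit 45, nat_lit 90, nat_lit 15, nat_lit 30, nat_lit 15, nat_lit 90, nat_lit 45])
(.leaf 13 2 [nat_lit 45, nat_lit 30, nat_lit 15, nat_lit 75, nat_lit 45, nat_lit 30, nat_lit 15, nat_lit 45, nat_lit 75])))))
(.leaf 0 0 []))
noncomputable def wt3 : LT := (.node (nat_lit 5) (.node (nat_lit 0) (.leaf 13 3 [nat_lit 30, nat_lit 15, nat_lit 75, nat_lit 45, nat_lit 30, nat_lit 15, nat_lit 45, nat_lit 75, nat_lit 30])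
(.node (nat_lit 2) (.node (nat_lit 1) (.leaf 41 12 [nat_lit 30, nat_lit 75, nat_lit 90, nat_lit 45, nat_lit 90, nat_lit 45, nat_lit 15, nat_lit 90, nat_lit 30, nat_lit 45, nat_lit 90, nat_lit 0])
(.leaf 29 0 [nat_lit 90, nat_lit 0, nat_lit 75, nat_lit 90, nat_lit 45, nat_lit 30, nat_lit 75, nat_lit 0, nat_lit 30]))
(.node (nat_lit 3) (.leaf 13 7 [nat_lit 30, nat_lit 15, nat_lit 45, nat_lit 75, nat_lit 30, nat_lit 45, nat_lit 30, nat_lit 15, nat_lit 75])
(.node (nat_lit 4) (.leaf 23 8 [nat_lit 30, nat_lit 45, nat_lit 90, nat_lit 75, nat_lit 30, nat_lit 75, nat_lit 90, nat_lit 45, nat_lit 30])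
(.leaf 27 0 [nat_lit 30, nat_lit 15, nat_lit 0, nat_lit 30, nat_lit 45, nat_lit 30, nat_lit 15, nat_lit 0, nat_lit 30])))))
(.node (nat_lit 7) (.node (nat_lit 6) (.leaf 19 4 [nat_lit 15, nat_lit 90, nat_lit 45, nat_lit 75, nat_lit 15, nat_lit 45, nat_lit 90, nat_lit 45, nat_lit 75])
(.leaf 13 0 [nat_lit 75, nat_lit 30, nat_lit 45, nat_lit 30, nat_lit 15, nat_lit 75, nat_lit 45, nat_lit 30, nat_lit 15]))
(.leaf 0 0 [])))
noncomputable def wt4 : LT := (.node (nat_lit 2) (.node (nat_lit 0) (.leaf 9 2 [nat_lit 90, nat_lit 15, nat_lit 60, nat_lit 15, nat_lit 90])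
(.node (nat_lit 1) (.leaf 11 5 [nat_lit 15, nat_lit 75, nat_lit 60, nat_lit 15, nat_lit 75])
(.leaf 9 5 [nat_lit 15, nat_lit 90, nat_lit 60, nat_lit 90, nat_lit 15])))
(.node (nat_lit 5) (.node (nat_lit 3) (.leaf 33 10 [nat_lit 30, nat_lit 15, nat_lit 60, nat_lit 30, nat_lit 15, nat_lit 60, nat_lit 30, nat_lit 15, nat_lit 60, nat_lit 30, nat_lit 15])
(.node (nat_lit 4) (.leaf 1 1 [nat_lit 15, nat_lit 60, nat_lit 0, nat_lit 15, nat_lit 0])
(.leaf 21 2 [nat_lit 90, nat_lit 45, nat_lit 15, nat_lit 90, nat_lit 60, nat_lit 90, nat_lit 15, nat_lit 45, nat_lit 90])))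
(.node (nat_lit 8) (.node (nat_lit 6) (.leaf 25 5 [nat_lit 15, nat_lit 30, nat_lit 45, nat_lit 30, nat_lit 45, nat_lit 30, nat_lit 15, nat_lit 60, nat_lit 45])
(.node (nat_lit 7) (.leaf 1 3 [nat_lit 0, nat_lit 15, nat_lit 0, nat_lit 60, nat_lit 15])
(.leaf 25 3 [nat_lit 45, nat_lit 60, nat_lit 15, nat_lit 30, nat_lit 45, nat_lit 30, nat_lit 45, nat_lit 30, nat_lit 15])))
(.node (nat_lit 9) (.leaf 21 7 [nat_lit 90, nat_lit 15, nat_lit 45, nat_lit 90, nat_lit 60, nat_lit 90, nat_lit 45, nat_lit 15, nat_lit 90])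
(.leaf 0 0 [])))))
noncomputable def wt5 : LT := (.node (nat_lit 3) (.node (nat_lit 1) (.node (nat_lit 0) (.leaf 29 3 [nat_lit 90, nat_lit 45, nat_lit 30, nat_lit 75, nat_lit 0, nat_lit 30, nat_lit 45, nat_lit 90, nat_lit 0])
(.leaf 19 3 [nat_lit 45, nat_lit 15, nat_lit 90, nat_lit 45, nat_lit 75, nat_lit 15, nat_lit 45, nat_lit 90, nat_lit 45]))
(.node (nat_lit 2) (.leaf 13 1 [nat_lit 30, nat_lit 45, nat_lit 30, nat_lit 15, nat_lit 75, nat_lit 45, nat_lit 30, nat_lit 15, nat_lit 45])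
(.leaf 7 5 [nat_lit 0, nat_lit 75, nat_lit 0, nat_lit 75, nat_lit 0])))
(.node (nat_lit 9) (.node (nat_lit 5) (.node (nat_lit 4) (.leaf 23 2 [nat_lit 30, nat_lit 75, nat_lit 90, nat_lit 45, nat_lit 30, nat_lit 45, nat_lit 30, nat_lit 45, nat_lit 90])
(.leaf 3 3 [nat_lit 0, nat_lit 15, nat_lit 0, nat_lit 75, nat_lit 15]))
(.node (nat_lit 7) (.node (nat_lit 6) (.leaf 23 4 [nat_lit 90, nat_lit 45, nat_lit 30, nat_lit 45, nat_lit 30, nat_lit 45, nat_lit 90, nat_lit 75, nat_lit 30])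
(.leaf 3 1 [nat_lit 15, nat_lit 75, nat_lit 0, nat_lit 15, nat_lit 0]))
(.node (nat_lit 8) (.leaf 29 7 [nat_lit 0, nat_lit 30, nat_lit 45, nat_lit 90, nat_lit 0, nat_lit 75, nat_lit 90, nat_lit 45, nat_lit 30])
(.leaf 41 1 [nat_lit 90, nat_lit 45, nat_lit 90, nat_lit 45, nat_lit 15, nat_lit 90, nat_lit 30, nat_lit 45, nat_lit 90, nat_lit 0, nat_lit 45, nat_lit 30]))))
(.leaf 0 0 [])))
noncomputable def wt6 : LT := (.node (nat_lit 8) (.node (nat_lit 2) (.node (nat_lit 0) (.leaf 5 2 [nat_lit 0, nat_lit 90, nat_lit 30, nat_lit 0, nat_lit 30])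
(.node (nat_lit 1) (.leaf 15 4 [nat_lit 30, nat_lit 90, nat_lit 45, nat_lit 30, nat_lit 15, nat_lit 45, nat_lit 15, nat_lit 30, nat_lit 45])
(.leaf 39 13 [nat_lit 30, nat_lit 45, nat_lit 90, nat_lit 30, nat_lit 45, nat_lit 90, nat_lit 30, nat_lit 45, nat_lit 90, nat_lit 30, nat_lit 45, nat_lit 90, nat_lit 30, nat_lit 45])))
(.node (nat_lit 4) (.node (nat_lit 3) (.leaf 5 4 [nat_lit 30, nat_lit 0, nat_lit 30, nat_lit 90, nat_lit 0])
(.leaf 37 13 [nat_lit 15, nat_lit 45, nat_lit 90, nat_lit 15, nat_lit 45, nat_lit 90, nat_lit 15, nat_lit 45, nat_lit 90, nat_lit 15, nat_lit 45, nat_lit 90, nat_lit 15, nat_lit 45]))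
(.node (nat_lit 6) (.node (nat_lit 5) (.leaf 17 6 [nat_lit 45, nat_lit 75, nat_lit 15, nat_lit 45, nat_lit 90, nat_lit 45, nat_lit 75, nat_lit 15, nat_lit 45])
(.leaf 29 4 [nat_lit 45, nat_lit 30, nat_lit 75, nat_lit 0, nat_lit 30, nat_lit 45, nat_lit 90, nat_lit 0, nat_lit 75]))
(.node (nat_lit 7) (.leaf 41 7 [nat_lit 30, nat_lit 45, nat_lit 90, nat_lit 0, nat_lit 45, nat_lit 30, nat_lit 75, nat_lit 90, nat_lit 45, nat_lit 90, nat_lit 45, nat_lit 15])
(.leaf 31 5 [nat_lit 45, nat_lit 30, nat_lit 15, nat_lit 30, nat_lit 45, nat_lit 90, nat_lit 15, nat_lit 30, nat_lit 15])))))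
(.leaf 0 0 []))
noncomputable def wt7 : LT := (.node (nat_lit 4) (.node (nat_lit 1) (.node (nat_lit 0) (.leaf 13 6 [nat_lit 45, nat_lit 30, nat_lit 15, nat_lit 45, nat_lit 75, nat_lit 30, nat_lit 45, nat_lit 30, nat_lit 15, nat_lit 75])
(.leaf 41 10 [nat_lit 0, nat_lit 45, nat_lit 30, nat_lit 75, nat_lit 90, nat_lit 45, nat_lit 90, nat_lit 45, nat_lit 15, nat_lit 90, nat_lit 30, nat_lit 45, nat_lit 90]))
(.node (nat_lit 2) (.leaf 39 0 [nat_lit 90, nat_lit 30, nat_lit 45, nat_lit 90, nat_lit 30, nat_lit 45, nat_lit 90, nat_lit 30, nat_lit 45, nat_lit 90, nat_lit 30, nat_lit 45, nat_lit 90, nat_lit 30, nat_lit 45])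
(.node (nat_lit 3) (.leaf 41 6 [nat_lit 90, nat_lit 30, nat_lit 45, nat_lit 90, nat_lit 0, nat_lit 45, nat_lit 30, nat_lit 75, nat_lit 90, nat_lit 45, nat_lit 90, nat_lit 45, nat_lit 15])
(.leaf 1 0 [nat_lit 60, nat_lit 15, nat_lit 60, nat_lit 0, nat_lit 15, nat_lit 0]))))
(.leaf 0 0 []))
noncomputable def sl : List (ℕ × ℕ × List ℕ × List ℕ) := [(0, nat_lit 0, [], []),
(2, nat_lit 15, [], []),
(4, nat_lit 30, [], []),
(6, nat_lit 45, [], []),
(8, nat_lit 60, [], [])]
/-- the inverse column -/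
noncomputable def icol (x : ℕ) : ℕ := x
noncomputable def inv (x : ℕ) : ℕ := x
def cols : List ℕ := [nat_lit 105, nat_lit 0, nat_lit 15, nat_lit 30, nat_lit 45, nat_lit 60, nat_lit 75, nat_lit 90]
noncomputable def cl : CL := (.cons (nat_lit 0) (nat_lit 0) (nat_lit 0) (nat_lit 0) wt0
(.cons (nat_lit 15) (nat_lit 15) (nat_lit 21) (nat_lit 1) wt1
(.cons (nat_lit 30) (nat_lit 30) (nat_lit 42) (nat_lit 2) wt2
(.cons (nat_lit 45) (nat_lit 45) (nat_lit 63) (nat_lit 3) wt3
(.cons (nat_lit 60) (nat_lit 60) (nat_lit 84) (nat_lit 4) wt4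
(.cons (nat_lit 75) (nat_lit 75) (nat_lit 105) (nat_lit 5) wt5
(.cons (nat_lit 90) (nat_lit 90) (nat_lit 126) (nat_lit 6) wt6
.nil)))))))
def rels : List (List ℕ) := [[0, 1, 0, 4, 1, 4],
[0, 1, 0, 5, 1, 5],
[0, 2, 6, 0, 6, 2],
[0, 5, 0, 5, 0, 5],
[1, 4, 1, 6, 4, 6],
[1, 4, 5, 1, 4, 5],
[3, 1, 2, 3, 5, 1, 2, 3, 2, 5],
[3, 1, 2, 3, 6, 2, 6, 3, 2, 1],
[3, 1, 5, 3, 6, 3, 1, 5, 3, 6],
[3, 1, 5, 3, 6, 1, 3, 5, 3, 6],
[3, 1, 6, 4, 6, 1, 3, 6, 4, 6],
[3, 2, 3, 2, 3, 6, 5, 2, 5, 6],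
[3, 2, 3, 2, 1, 4, 3, 4, 1, 2],
[3, 2, 0, 1, 2, 3, 2, 0, 1, 2],
[3, 2, 0, 5, 2, 3, 6, 5, 0, 6],
[3, 2, 1, 2, 3, 6, 1, 2, 1, 6],
[1, 2, 4, 1, 2, 4, 1, 2, 4, 1, 2, 4],
[1, 2, 5, 1, 2, 5, 1, 2, 5, 1, 2, 5],
[3, 1, 6, 3, 1, 6, 3, 1, 6, 3, 1, 6, 3, 1, 6],
[3, 2, 6, 3, 2, 6, 3, 2, 6, 3, 2, 6, 3, 2, 6],
[2, 3, 0, 6, 3, 2, 6, 1, 3, 6, 3, 6, 5]]
def subs : List (List ℕ) := [[0],
[1],
[2],
[3],
[4]]
noncomputable def chk : ℕ → Bool := rowChk row jrow fget sl cols (nat_lit 45) (nat_lit 56) (nat_lit 32767) (nat_lit 63) (nat_lit 32768) (nat_lit 105) (nat_lit 120) (nat_lit 2097151) (nat_lit 6) (nat_lit 63) (nat_lit 6) (nat_lit 63) cl (nat_lit 147) wt7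
theorem p0 : allB chk 13 0 = true := by decide +kernel
theorem all_chk : AllLt chk 56 := by
  have h := AllLt.zero chk
  have h := h.step 56 p0 (by decide +kernel)
  exact h
/-- column `x` of the final table -/
noncomputable def tab (x u : ℕ) : ℕ := ft fget (nat_lit 6) (nat_lit 63) (nat_lit 6) (nat_lit 63) (Nat.mul x (nat_lit 1)) u
theorem enum {G Ω : Type*} [Group G] [MulAction G Ω] (g : ℕ → G) (ω : Ω)
    (hinv : ∀ x, g (icol x) = (g x)⁻¹) (h1 : g 7 = 1)
    (hrels : ∀ R ∈ rels, ev g R = 1) (hsubs : ∀ S ∈ subs, ev g S • ω = ω) :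
    ∃ pt : ℕ → Ω, pt 0 = ω ∧ (∀ K : Subgroup G, (∀ x, g x ∈ K) → ∀ v, ∃ k ∈ K, pt v = k • ω) ∧
      ∀ x, x < 7 → ∀ u, u < 45 → tab x u < 45 ∧ g x • pt u = pt (tab x u) :=
  sound_scaled g ω row jrow fget sl inv icol cols (nat_lit 45) (nat_lit 56) (nat_lit 32767) (nat_lit 63) (nat_lit 32768) (nat_lit 105) (nat_lit 120) (nat_lit 2097151) (nat_lit 6) (nat_lit 63) (nat_lit 6) (nat_lit 63) 6 cl (nat_lit 147) wt7 rels subs 15 (nat_lit 1) 7
    (fun _ => rfl) hinv h1 hrels hsubs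
    (by decide +kernel) (by decide +kernel) all_chk
end H49.ETT1
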