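import Cfsg.Agent.Lib.Held.Am3
import Cfsg.Agent.Lib.Held.ELL1
import Cfsg.Agent.Lib.Held.ELL2
import Cfsg.Agent.Lib.Held.ELT1
import Cfsg.Agent.Lib.Held.ELT2
import Cfsg.Agent.Lib.Held.ETT1
import Cfsg.Agent.Lib.Held.ETT2

/-!
# The data of the three amalgams (helper49)
-/

set_option autoImplicit false

namespace H49.He

open H54 (allL)

universe u

/-- the data of type LL -/
def dLL : Dt where
  X := 23
  X' := 23
  u := 0x1041041
  Y1 := 0x820821c11c1060c2083043041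
  Y4 := 0x860820c1043160830830410c1
  K := 0x20830830410c1830820c10c106182083041043
  W1 := [[3], [0, 1, 0, 2, 1, 0], [0], [1], [], []]
  C1 := 0x1041041830820c10c106182083041043
  W2 := [[0, 1, 0, 2, 1, 0], [3], [], [], [0], [1]]
  C2 := 0x20830830410c10000004104106182083041043
  a6 := 0x104125d
  a7 := 0x1045049
  WE := [[5], [3, 5, 3, 5], [4], [2, 4, 2, 4], [3], [2], [1, 2, 4, 2, 1, 2, 4, 2], [1, 2, 1, 2], [1], [0], [0, 4, 0, 4], [0, 3, 2, 4, 0, 4, 2, 3], [0, 4, 2, 1, 2, 4, 0, 4, 2, 1, 2, 4]]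

/-- the data of type LT -/
def dLT : Dt where
  X := 87
  X' := 151
  u := 0x1041241
  Y1 := 0x820829c11c1060c2083043041
  Y4 := 0x860820c104b160830a30410d1
  K := 0x20830a30410d1830820c10c106182083045053
  W1 := [[0, 2, 3], [0, 1, 0, 2, 1, 0], [0], [1], [], []]
  C1 := 0x1041041830820c10c106182083045053
  W2 := [[0, 1, 0, 2, 1, 0], [3], [], [], [0], [1]]
  C2 := 0x20830a30410d10000004104106182083045053
  a6 := 0x104104d
  a7 := 0x1045049
  WE := [[2, 3, 2, 5, 3, 2, 5, 3], [3, 5, 3, 5], [2, 3, 2, 4, 2, 3, 4, 2], [2, 4, 2, 4], [3], [2], [1, 2, 4, 2, 1, 2, 4, 2], [1, 2, 1, 2], [1], [0, 1, 4, 0, 4, 2, 1, 2, 4, 0, 4], [0, 2, 1, 2, 4, 0, 2, 1, 2, 4], [0, 4, 2, 4, 0, 4, 2, 4], [2, 3, 2, 4, 2, 3, 4, 2, 4]]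

/-- the data of type TT -/
def dTT : Dt where
  X := 215
  X' := 215
  u := 0x1041141
  Y1 := 0x820825c11c1260c21a3043051
  Y4 := 0x860820c104b160830a30410d1
  K := 0x20830a30410d1830868c10c1461824ab045053
  W1 := [[0, 2, 3], [0, 1, 0, 2, 1, 0], [0], [1], [], []]
  C1 := 0x1041041830868c10c1461824ab045053
  W2 := [[0, 1, 0, 2, 1, 0], [0, 2, 3], [], [], [0], [1]]
  C2 := 0x20830a30410d100000041041061824ab045053
  a6 := 0x104104d
  a7 := 0x1045051
  WE := [[2, 4, 2, 4, 5, 4, 2, 4], [3, 4, 5, 3, 4, 5], [2, 3, 2, 4, 2, 3, 4, 2], [2, 4, 2, 4], [3, 4], [3, 2, 4, 2, 3, 4, 2, 4], [1, 2, 4, 2, 1, 2, 4, 2], [1, 4, 0, 4, 2, 1, 4, 0, 4, 2], [0, 1, 4, 0, 4], [0, 1, 2, 1, 4, 0, 4, 2, 4, 0, 4], [0, 2, 1, 2, 4, 0, 2, 1, 2, 4], [0, 4, 2, 4, 0, 4, 2, 4], [2, 3, 2, 4, 2, 3, 4, 2, 4]]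

theorem okLL : dLL.Ok := by
  constructor <;> decide +kernel

theorem relLL : allL dLL.rel ELL2.rels = true := by decide +kernel

theorem bndLL : Bnd.{u} dLL ELL2.rels 9999360 :=
  bnd_of okLL (fun _ _ _ _ => ELL1.enum) (fun _ _ _ _ => ELL2.enum) (by decide +kernel) (by decide +kernel)

theorem okLT : dLT.Ok := by
  constructor <;> decide +kernel

theorem relLT : allL dLT.rel ELT2.rels = true := by decide +kernel

theorem bndLT : Bnd.{u} dLT ELT2.rels 244823040 :=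
  bnd_of okLT (fun _ _ _ _ => ELT1.enum) (fun _ _ _ _ => ELT2.enum) (by decide +kernel) (by decide +kernel)

theorem okTT : dTT.Ok := by
  constructor <;> decide +kernel

theorem relTT : allL dTT.rel ETT2.rels = true := by decide +kernel

theorem bndTT : Bnd.{u} dTT ETT2.rels 4030387200 :=
  bnd_of okTT (fun _ _ _ _ => ETT1.enum) (fun _ _ _ _ => ETT2.enum) (by decide +kernel) (by decide +kernel)

end H49.He
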