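import Cfsg.Agent.Lib.Held.Mat5
import Cfsg.Agent.Lib.CosetEnum.Pres
import Cfsg.Agent.Lib.Invol.Dihedral

/-!
# A group with the involution centraliser of `L₅(2)`: coordinates (helper49)

`Emb g`: the codes with `ok` parametrise the centraliser of `g z0`.
-/

set_option autoImplicit false

namespace H49.He

open H54 (force sel band bor bimp force_eq band_eq_true bor_eq_true bimp_eq_true allL allL_iff)
open H18.TC (ev ev_cons ev_nil)
open Subgroup

/-- the middle block -/
def mL : ℕ := nat_lit 0x739c0

/-- inverses of the middle blocks -/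
def ivT : ℕ := nat_lit 0x20e5303011981829cc0c0c260400000000000000000041cc5040000010130c18298e0800000206608200000000000040865060451820000000000004082706047082000000000000418e5060c538200000000000041823060c308200000000000040c45040000010111c182886080000020e20820000000000000000002065103013881828c40c1c22040000000000000000000000000000000000000000000000000000000000000000000000000020e3303012981819cc0c14260400000000000000000000000000000000000000000000000000000000000000838ca080000000000010128c100000041427060670820000008118a080000020461820000008118e08000002046082000000819ca080000000000010129c100000041423060e30820000008308a080000020c238200000083086080000020c20820000000000000000002067103012881838c40c1422040000000000000000000000000000000000000000000000000000000000000000000041cc3040000010131418198e080000020a6082000000839460800000000000101194100000040c27060a7082000000000000000000000000000000000000000000000000000000008114c0c086604000000000000811cc0c0826040000000000008194e0800000000000101394100000041c23060a308200000000000040c47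0400000101114183886080000020a2082000000831440c18e204000000000000830c40c18220400000000000000000000000000000000000000000000000000000000000000000000410a306083282000000000000410270608708200000082186080000020862820000008218e08000002086082000000820cc0c10a604000000000000821cc0c10260400000000000000000000000000000000000000000000000000000000000000000000410a70608728200000000000041023060830820000008208e080000020822820000008208608000002082082000000821c40c10a204000000000000820c40c10220400000000000000000000000000000000000000000000000000000000000000000000418e3060c338200000000000041825060c5082000000829c6080000000000010119c100000040c25060e5082000000828ce080000000000010138c100000041c250606508200000000000040867060471820000000000004082506045082000000000000000000000000000000000000000000000000000000008288c0c0c46060e23030111810000000000000000000000000829840c1cc20606610301308100000000000000000000000000000000000000000000000000000000000000000000000000000000041483040000010121c18190a080000020e408200000083106080000020c43820000008310a080000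020c408200000000000041487040000010120c18390a080000020640820000008110e080000020441820000008110a080000020440820000008190c0c1486060e4303012181000000000000000000000000000000000000000000000000000000000000000000000000000839040c14820606410301208100000000000000000000000000000000000000000000000000000000000000000000000000000000000000020a3203013901819480c1c240400000000000000000000000020a7203011901839480c0c2404000000000000830c80c18e404000000000000831480c182404000000000000811c80c086404000000000000811480c082404000000000000819880c1cc4060a62030131010000000000000000000000000838880c0c44060a2203011101000000000000000000000000000000000000000000000000000000000000000000000000000000000000000000000000000000000000000000000000000000000000000000000000000000000000000000000000000000000000000000000000000000000000000000000000000000000000000000000000000000000000000000000000000000000000000000000000000000000000000000000000000000000000000000000000000000000000000000000000000000000000000000000000000000000000000000000000000000000000000000000000000000000000000000000000000000000000000000000000000000000000000000000000000000000000000000000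

/-- the inverse of the middle block -/
def ivL (a : ℕ) : ℕ := Nat.land (Nat.shiftRight ivT (Nat.mul (nat_lit 25) (Nat.lor (Nat.lor
  (Nat.land (Nat.shiftRight a (nat_lit 6)) (nat_lit 7)) (Nat.land (Nat.shiftRight a (nat_lit 8)) (nat_lit 56)))
  (Nat.land (Nat.shiftRight a (nat_lit 10)) (nat_lit 448))))) (nat_lit 0x1ffffff)

/-- the inverse -/
noncomputable def iv (a : ℕ) : ℕ :=
  force a fun a => force (ivL a) fun l => force (a ⋆ l) fun q => l ⋆ (q ⋆ q ⋆ q)

theorem allK' {P : ℕ → Bool} (h : allK mL mQ P = true) {a : ℕ} (ha : ok a = true) : P a = true :=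
  allK_spec h (m := mK) (by decide) ha (ok_iff.1 ha).1

theorem iv_chk : allK mL mQ (fun a => force (iv a) fun b => band (ok b) (Nat.beq (a ⋆ b) I5)) = true := by
  decide +kernel

theorem iv_spec {a : ℕ} (h : ok a = true) : ok (iv a) = true ∧ a ⋆ iv a = I5 := by
  have := allK' iv_chk h
  rwa [force_eq, band_eq_true, Nat.beq_eq] at this

theorem ok_iv {a : ℕ} (h : ok a = true) : ok (iv a) = true := (iv_spec h).1

/-- conjugation -/
noncomputable def cj (k a : ℕ) : ℕ := force k fun k => k ⋆ a ⋆ iv k

theorem cj_eq (k a : ℕ) : cj k a = k ⋆ a ⋆ iv k := by rw [cj, force_eq]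

theorem ok_cj {k a : ℕ} (hk : ok k = true) (ha : ok a = true) : ok (cj k a) = true :=
  cj_eq k a ▸ ok_mul (ok_mul hk ha) (ok_iv hk)

/-- commuting codes -/
noncomputable def cm (a b : ℕ) : Bool := force a fun a => force b fun b => Nat.beq (a ⋆ b) (b ⋆ a)

theorem cm_iff {a b : ℕ} : cm a b = true ↔ a ⋆ b = b ⋆ a := by
  rw [cm, force_eq, force_eq, Nat.beq_eq]

/-- codes of square one -/
noncomputable def sq1 (a : ℕ) : Bool := force a fun a => Nat.beq (a ⋆ a) I5

theorem sq1_iff {a : ℕ} : sq1 a = true ↔ a ⋆ a = I5 := by rw [sq1, force_eq, Nat.beq_eq]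

attribute [irreducible] iv cj cm sq1

theorem mul_z0 {a : ℕ} (h : ok a = true) : a ⋆ z0 = z0 ⋆ a := by
  have h1 := ((inM_iff mK_closed.1).1 (ok_iff.1 h).1).2
  have e00 := h1 0 0 rfl; have e10 := h1 1 0 rfl; have e20 := h1 2 0 rfl; have e30 := h1 3 0 rfl
  have e40 := h1 4 0 rfl; have e41 := h1 4 1 rfl; have e42 := h1 4 2 rfl; have e43 := h1 4 3 rfl
  have e44 := h1 4 4 rfl
  have hz : ∀ i j, ent z0 i j = (decide (i = j) || (decide (i = 0) && decide (j = 4))) := by decide
  refine ent_ext (mul5_lt _ _) (mul5_lt _ _) fun i j => ?_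
  rw [ent_mul, ent_mul]
  simp only [hz]
  fin_cases i <;> fin_cases j <;> simp [*, Bool.xor_comm]

theorem ok_of_comm {a : ℕ} (ha : a < 2 ^ 25) (hd : (mat a).det = 1) (h : a ⋆ z0 = z0 ⋆ a) :
    ok a = true := by
  have hz : ∀ i j, ent z0 i j = (decide (i = j) || (decide (i = 0) && decide (j = 4))) := by decide
  have e : ∀ i j, ent (a ⋆ z0) i j = ent (z0 ⋆ a) i j := fun i j => by rw [h]
  simp only [ent_mul, hz] at e
  have e14 := e 1 4; have e24 := e 2 4; have e34 := e 3 4; have e44 := e 4 4
  have e01 := e 0 1; have e02 := e 0 2; have e03 := e 0 3; have e04 := e 0 4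
  simp at e14 e24 e34 e44 e01 e02 e03 e04
  have k1 : ∀ x y : Bool, (x ^^ y) = y → x = false := by decide
  have k2 : ∀ x y : Bool, y = (y ^^ x) → x = false := by decide
  replace e14 := k1 _ _ e14; replace e24 := k1 _ _ e24; replace e34 := k1 _ _ e34
  replace e44 := k1 _ _ e44; replace e01 := k2 _ _ e01; replace e02 := k2 _ _ e02
  replace e03 := k2 _ _ e03
  have e00 : ent a 0 0 = true := by
    by_contra h0
    rw [Matrix.det_eq_zero_of_column_eq_zero 0 fun i => by fin_cases i <;> simp [mat, *]] at hd
    exact absurd hd (by decide)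
  have e4 : ent a 4 4 = true := by
    rw [e00] at e04; revert e04; cases ent a 0 4 <;> cases ent a 4 4 <;> simp
  refine ok_iff_det.2 ⟨(inM_iff mK_closed.1).2 ⟨ha, fun i j hij => ?_⟩, hd⟩
  fin_cases i <;> fin_cases j <;> first | exact absurd hij (by decide) | simp [*]

/-- evaluation of a word in codes -/
noncomputable def evc (c : ℕ → ℕ) (w : List ℕ) : ℕ :=
  List.rec (motive := fun _ => ℕ) I5 (fun x _ ih => ih ⋆ c x) w

variable {G : Type*} [Group G]

/-- the codes with `ok` parametrise the centraliser of `g z0` -/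
structure Emb (g : ℕ → G) : Prop where
  mul : ∀ {a b}, ok a = true → ok b = true → g (a ⋆ b) = g a * g b
  inj : ∀ {a b}, ok a = true → ok b = true → g a = g b → a = b
  cent : ∀ {x}, x * g z0 = g z0 * x → ∃ a, ok a = true ∧ x = g a

/-- the subgroup of a mask -/
def sub (g : ℕ → G) (m : ℕ) : Subgroup G :=
  closure {x | ∃ a, ok a = true ∧ inM m a = true ∧ x = g a}

theorem mem_sub_of {g : ℕ → G} {m a : ℕ} (h : inM m a = true := by decide +kernel)
    (ha : ok a = true := by decide +kernel) : g a ∈ sub g m :=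
  subset_closure ⟨a, ha, h, rfl⟩

theorem sub_mono (g : ℕ → G) {m m' : ℕ} (h : m ||| m' = m' := by decide) : sub g m ≤ sub g m' :=
  closure_mono fun _ ⟨a, h1, h2, h3⟩ => ⟨a, h1, inM_mono h2 h, h3⟩

namespace Emb

variable {g : ℕ → G}

theorem one (E : Emb g) : g I5 = 1 := by
  have := E.mul ok_I5 ok_I5
  rw [show I5 ⋆ I5 = I5 by decide +kernel] at this
  exact left_eq_mul.1 this

theorem inv (E : Emb g) {a : ℕ} (h : ok a = true) : g (iv a) = (g a)⁻¹ :=
  (inv_eq_of_mul_eq_one_right (by rw [← E.mul h (ok_iv h), (iv_spec h).2, E.one])).symm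

theorem cj (E : Emb g) {k a : ℕ} (hk : ok k = true) (ha : ok a = true) :
    g (cj k a) = g k * g a * (g k)⁻¹ := by
  rw [cj_eq, E.mul (ok_mul hk ha) (ok_iv hk), E.mul hk ha, E.inv hk]

theorem comm_z (E : Emb g) {a : ℕ} (h : ok a = true) : g a * g z0 = g z0 * g a := by
  rw [← E.mul h ok_z0, mul_z0 h, E.mul ok_z0 h]

theorem eq_iff (E : Emb g) {a b : ℕ} (ha : ok a = true) (hb : ok b = true) : g a = g b ↔ a = b :=
  ⟨E.inj ha hb, fun h => h ▸ rfl⟩

theorem eq_one (E : Emb g) {a : ℕ} (ha : ok a = true) : g a = 1 ↔ a = I5 := by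
  rw [← E.one, E.eq_iff ha ok_I5]

theorem cm (E : Emb g) {a b : ℕ} (ha : ok a = true) (hb : ok b = true) :
    cm a b = true ↔ g a * g b = g b * g a := by
  rw [cm_iff, ← E.mul ha hb, ← E.mul hb ha, E.eq_iff (ok_mul ha hb) (ok_mul hb ha)]

theorem sq1 (E : Emb g) {a : ℕ} (ha : ok a = true) : sq1 a = true ↔ g a * g a = 1 := by
  rw [sq1_iff, ← E.mul ha ha, E.eq_one (ok_mul ha ha)]

/-- a product of concrete codes -/
theorem mul_eq (E : Emb g) {a b c : ℕ}
    (h : band (band (ok a) (ok b)) (Nat.beq (a ⋆ b) c) = true := by decide +kernel) :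
    g a * g b = g c := by
  rw [band_eq_true, band_eq_true, Nat.beq_eq] at h
  rw [← E.mul h.1.1 h.1.2, h.2]

theorem mul_eq_mul (E : Emb g) {a b c d : ℕ}
    (h : band (band (band (ok a) (ok b)) (band (ok c) (ok d))) (Nat.beq (a ⋆ b) (c ⋆ d)) = true := by
      decide +kernel) : g a * g b = g c * g d := by
  simp only [band_eq_true, Nat.beq_eq] at h
  rw [← E.mul h.1.1.1 h.1.1.2, h.2, E.mul h.1.2.1 h.1.2.2]

theorem ne (E : Emb g) {a b : ℕ}
    (h : band (band (ok a) (ok b)) (!Nat.beq a b) = true := by decide +kernel) : g a ≠ g b := by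
  simp only [band_eq_true, Bool.not_eq_true', ← Bool.not_eq_true, Nat.beq_eq] at h
  exact fun e => h.2 (E.inj h.1.1 h.1.2 e)

theorem ne_one (E : Emb g) {a : ℕ}
    (h : band (band (ok a) (ok I5)) (!Nat.beq a I5) = true := by decide +kernel) : g a ≠ 1 :=
  E.one ▸ E.ne h

theorem zz (E : Emb g) : g z0 * g z0 = 1 := E.one ▸ E.mul_eq

theorem ord_z (E : Emb g) : orderOf (g z0) = 2 := H9.orderOf_eq_two_of_mul_self E.ne_one E.zz

theorem evc (E : Emb g) {c : ℕ → ℕ} : ∀ {w : List ℕ}, (∀ x ∈ w, ok (c x) = true) →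
    ok (evc c w) = true ∧ g (evc c w) = ev (fun x => g (c x)) w
  | [], _ => ⟨ok_I5, E.one⟩
  | x :: w, h => by
    obtain ⟨h1, h2⟩ := E.evc (w := w) fun y hy => h y (List.mem_cons_of_mem _ hy)
    have h3 := h x List.mem_cons_self
    exact ⟨ok_mul h1 h3, by rw [ev_cons, ← h2]; exact E.mul h1 h3⟩

theorem _root_.H49.He.mem_sub_of_mul [Finite G] (h1 : g I5 = 1)
    (h2 : ∀ {a b}, ok a = true → ok b = true → g (a ⋆ b) = g a * g b) {m : ℕ} {x : G} (hm : Closed m) :
    x ∈ sub g m ↔ ∃ a, ok a = true ∧ inM m a = true ∧ x = g a := by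
  refine ⟨fun h => ?_, fun h => subset_closure h⟩
  rw [sub, ← mem_toSubmonoid, Subgroup.closure_toSubmonoid_of_finite] at h
  induction h using Submonoid.closure_induction with
  | mem x hx => exact hx
  | one => exact ⟨I5, ok_I5, inM_I5 _, h1.symm⟩
  | mul x y _ _ hx hy =>
    obtain ⟨a, h5, h6, rfl⟩ := hx
    obtain ⟨b, h3, h4, rfl⟩ := hy
    exact ⟨a ⋆ b, ok_mul h5 h3, inM_mul hm h6 h4, (h2 h5 h3).symm⟩

theorem mem_sub [Finite G] (E : Emb g) {m : ℕ} {x : G} (hm : Closed m := by decide) :
    x ∈ sub g m ↔ ∃ a, ok a = true ∧ inM m a = true ∧ x = g a := mem_sub_of_mul E.one E.mul hm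

theorem mem_sub_iff [Finite G] (E : Emb g) {m a : ℕ} (ha : ok a = true) (hm : Closed m := by decide) :
    g a ∈ sub g m ↔ inM m a = true := by
  rw [E.mem_sub hm]
  exact ⟨fun ⟨b, h1, h2, h3⟩ => E.inj ha h1 h3 ▸ h2, fun h => ⟨a, ha, h, rfl⟩⟩

theorem ncard (E : Emb g) {m : ℕ} (hm : m < 2 ^ 25) {P : ℕ → Bool}
    (hP : ∀ a, inM m a = true → P a = true → ok a = true) :
    {x | ∃ a, inM m a = true ∧ P a = true ∧ x = g a}.ncard = cntM m P := by
  rw [← cntM_spec P hm, ← Set.InjOn.ncard_image (f := g)]
  · congr 1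
    ext x
    exact ⟨fun ⟨a, h1, h2, h3⟩ => ⟨a, ⟨h1, h2⟩, h3.symm⟩, fun ⟨a, ⟨h1, h2⟩, h3⟩ => ⟨a, h1, h2, h3.symm⟩⟩
  · exact fun a ha b hb => E.inj (hP a ha.1 ha.2) (hP b hb.1 hb.2)

theorem card_sub [Finite G] (E : Emb g) {m : ℕ} (hm : Closed m := by decide) :
    Nat.card (sub g m) = cntM m ok := by
  rw [← E.ncard hm.1 fun _ _ h => h, ← Nat.card_coe_set_eq]
  refine Nat.card_congr (Equiv.subtypeEquivRight fun x => ?_)
  rw [E.mem_sub hm]
  exact ⟨fun ⟨a, h1, h2, h3⟩ => ⟨a, h2, h1, h3⟩, fun ⟨a, h1, h2, h3⟩ => ⟨a, h2, h1, h3⟩⟩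

theorem mem_K [Finite G] (E : Emb g) {x : G} : x ∈ sub g mK ↔ x * g z0 = g z0 * x := by
  rw [E.mem_sub]
  exact ⟨fun ⟨a, h1, _, h3⟩ => h3 ▸ E.comm_z h1, fun h =>
    let ⟨a, h1, h2⟩ := E.cent h; ⟨a, h1, (ok_iff.1 h1).1, h2⟩⟩

theorem card_K [Finite G] (E : Emb g) : Nat.card (sub g mK) = 21504 :=
  E.card_sub.trans (by decide +kernel)

/-- the reflected coordinates -/
theorem flp (E : Emb g) : Emb fun a => (g (flp a))⁻¹ where
  mul ha hb := by rw [flp_mul, E.mul (ok_flp hb) (ok_flp ha), mul_inv_rev]
  inj {a b} ha hb h := by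
    rw [← flp_flp (ok_lt ha), E.inj (ok_flp ha) (ok_flp hb) (inv_injective h), flp_flp (ok_lt hb)]
  cent {x} h := by
    rw [flp_z0, inv_eq_of_mul_eq_one_right E.zz] at h
    obtain ⟨a, h1, h2⟩ := E.cent (x := x⁻¹) (Commute.inv_left (show Commute x _ from h))
    exact ⟨He.flp a, ok_flp h1, by rw [flp_flp (ok_lt h1), ← h2, inv_inv]⟩

theorem flp_z (E : Emb g) : (g (He.flp z0))⁻¹ = g z0 := by
  rw [flp_z0, inv_eq_of_mul_eq_one_right E.zz]

theorem central_chk : allK mL mQ (fun a => bimp (He.cm a 0x1041043) (bimp (He.cm a 0x10410c1)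
    (bimp (He.cm a 0x1043041) (bimp (He.cm a 0x10c1041) (bor (Nat.beq a I5) (Nat.beq a z0)))))) = true := by
  decide +kernel

/-- an element of the centraliser that commutes with four generators of `T` -/
theorem central (E : Emb g) {x : G} (h0 : x * g z0 = g z0 * x)
    (h1 : x * g 0x1041043 = g 0x1041043 * x) (h2 : x * g 0x10410c1 = g 0x10410c1 * x)
    (h3 : x * g 0x1043041 = g 0x1043041 * x) (h4 : x * g 0x10c1041 = g 0x10c1041 * x) :
    x = 1 ∨ x = g z0 := by
  obtain ⟨a, ha, rfl⟩ := E.cent h0
  have := allK' central_chk ha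
  simp only [bimp_eq_true, bor_eq_true, Nat.beq_eq] at this
  rcases this ((E.cm ha (by decide +kernel)).2 h1) ((E.cm ha (by decide +kernel)).2 h2) ((E.cm ha (by decide +kernel)).2 h3)
    ((E.cm ha (by decide +kernel)).2 h4) with rfl | rfl
  exacts [Or.inl E.one, Or.inr rfl]

/-- transport along an isomorphism of centralisers -/
theorem transfer (E : Emb g) {G' : Type*} [Group G'] {j : G'} (hj : orderOf j = 2)
    (e : centralizer ({j} : Set G') ≃* centralizer ({g z0} : Set G)) :
    ∃ g' : ℕ → G', Emb g' ∧ g' z0 = j := by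
  classical
  have hm : ∀ {a}, ok a = true → g a ∈ centralizer ({g z0} : Set G) := fun h =>
    mem_centralizer_singleton_iff.2 (E.comm_z h)
  let g' : ℕ → G' := fun a => if h : ok a = true then (e.symm ⟨g a, hm h⟩ : G') else 1
  have hg : ∀ {a} (h : ok a = true), g' a = (e.symm ⟨g a, hm h⟩ : G') := fun h => dif_pos h
  have hj' : j ∈ centralizer ({j} : Set G') := mem_centralizer_singleton_iff.2 rfl
  have hc : ∀ {a}, ok a = true → (e ⟨j, hj'⟩ : G) * g a = g a * e ⟨j, hj'⟩ := fun {a} h => by
    have : e.symm ⟨g a, hm h⟩ * ⟨j, hj'⟩ = ⟨j, hj'⟩ * e.symm ⟨g a, hm h⟩ :=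
      Subtype.ext (mem_centralizer_singleton_iff.1 (e.symm ⟨g a, hm h⟩).2)
    have := congrArg (fun y => (e y : G)) this
    simpa using this.symm
  have hz : g' z0 = j := by
    rcases E.central (hc ok_z0) (hc (by decide +kernel)) (hc (by decide +kernel)) (hc (by decide +kernel)) (hc (by decide +kernel))
      with h | h
    · have : e ⟨j, hj'⟩ = 1 := Subtype.ext h
      rw [map_eq_one_iff _ e.injective] at this
      exact absurd (congrArg Subtype.val this) (H9.ne_one_of_orderOf_two hj)
    · rw [hg ok_z0, show (⟨g z0, hm ok_z0⟩ : centralizer ({g z0} : Set G)) = e ⟨j, hj'⟩ from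
        Subtype.ext h.symm, e.symm_apply_apply]
  refine ⟨g', ⟨fun {a b} ha hb => ?_, fun {a b} ha hb h => ?_, fun {x} h => ?_⟩, hz⟩
  · rw [hg ha, hg hb, hg (ok_mul ha hb), ← coe_mul, ← map_mul]
    congr 2
    exact Subtype.ext (E.mul ha hb)
  · rw [hg ha, hg hb] at h
    exact E.inj ha hb (congrArg Subtype.val (e.symm.injective (Subtype.ext h)))
  · rw [hz] at h
    obtain ⟨a, ha, h2⟩ := E.cent (mem_centralizer_singleton_iff.1
      (e ⟨x, mem_centralizer_singleton_iff.2 h⟩).2)
    refine ⟨a, ha, ?_⟩
    rw [hg ha, show (⟨g a, hm ha⟩ : centralizer ({g z0} : Set G)) =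
      e ⟨x, mem_centralizer_singleton_iff.2 h⟩ from Subtype.ext h2.symm, e.symm_apply_apply]

end Emb

/-! ### the model `SL(5, 2)` -/

/-- the reordering of the coordinates -/
def π5 : Fin 5 ≃ Fin 5 := ⟨![0, 4, 1, 2, 3], ![0, 2, 3, 4, 1], by decide, by decide⟩

open Classical in
/-- the element of `SL(5, 2)` of a code -/
noncomputable def sl (a : ℕ) : Matrix.SpecialLinearGroup (Fin 5) (ZMod 2) :=
  if h : (mat a).det = 1 then ⟨(mat a).submatrix π5 π5, by rwa [Matrix.det_submatrix_equiv_self]⟩ else 1

theorem sl_val {a : ℕ} (h : (mat a).det = 1) : (sl a).1 = (mat a).submatrix π5 π5 := by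
  unfold sl
  exact congrArg Subtype.val (dif_pos h)

theorem sl_z0 : (sl z0).1 = Matrix.transvection 0 1 1 := by
  rw [sl_val (ok_iff_det.1 ok_z0).2]; decide

attribute [irreducible] sl

theorem sub_inj {A B : Matrix (Fin 5) (Fin 5) (ZMod 2)} (h : A.submatrix π5 π5 = B.submatrix π5 π5) :
    A = B := by
  ext i j
  have := congrFun (congrFun h (π5.symm i)) (π5.symm j)
  simpa only [Matrix.submatrix_apply, Equiv.apply_symm_apply] using this

theorem emb_sl : Emb sl where
  mul {a b} ha hb := Subtype.ext (by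
    rw [Matrix.SpecialLinearGroup.coe_mul, sl_val (ok_iff_det.1 ha).2, sl_val (ok_iff_det.1 hb).2,
      sl_val (ok_iff_det.1 (ok_mul ha hb)).2, mat_mul, Matrix.submatrix_mul_equiv])
  inj {a b} ha hb h := by
    have := congrArg Subtype.val h
    rw [sl_val (ok_iff_det.1 ha).2, sl_val (ok_iff_det.1 hb).2] at this
    exact mat_inj (ok_lt ha) (ok_lt hb) (sub_inj this)
  cent {x} h := by
    obtain ⟨a, ha, h1⟩ : ∃ a, a < 2 ^ 25 ∧ mat a = x.1.submatrix π5.symm π5.symm :=
      ⟨_, ofF_lt _, mat_ofF _⟩
    have h2 : (mat a).det = 1 := by rw [h1, Matrix.det_submatrix_equiv_self]; exact x.2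
    have h3 : x = sl a := Subtype.ext (by
      rw [sl_val h2, h1]
      ext i j
      simp only [Matrix.submatrix_apply, Equiv.symm_apply_apply])
    refine ⟨a, ok_of_comm ha h2 (mat_inj (mul5_lt _ _) (mul5_lt _ _) ?_), h3⟩
    have h4 : x.1 * (sl z0).1 = (sl z0).1 * x.1 := by
      rw [← Matrix.SpecialLinearGroup.coe_mul, h, Matrix.SpecialLinearGroup.coe_mul]
    rw [h3, sl_val h2, sl_val (ok_iff_det.1 ok_z0).2, Matrix.submatrix_mul_equiv,
      Matrix.submatrix_mul_equiv] at h4
    rw [mat_mul, mat_mul, sub_inj h4]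

theorem exists_emb {s : Matrix.SpecialLinearGroup (Fin 5) (ZMod 2)}
    (hs : (s : Matrix (Fin 5) (Fin 5) (ZMod 2)) = Matrix.transvection 0 1 1) {j : G} (hj : orderOf j = 2)
    (e : centralizer ({j} : Set G) ≃* centralizer ({s} : Set (Matrix.SpecialLinearGroup (Fin 5) (ZMod 2)))) :
    ∃ g : ℕ → G, Emb g ∧ g z0 = j := by
  have h : s = sl z0 := Subtype.ext (hs.trans sl_z0.symm)
  rw [h] at e
  exact emb_sl.transfer hj e

end H49.He
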