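import Cfsg.Agent.Lib.MonType.Std
import Cfsg.Agent.Lib.MonType.Baby

/-!
# Groups of Monster type: the centraliser of an element of order seven (helper49)

`odd_cent'` is `H95.Mon.odd_cent` with the involution and the kernel made explicit.
-/

set_option autoImplicit false

namespace H49.Mo

open Cfsg Subgroup H16 H95

variable {G : Type*} [Group G] {z : G} {Q : Subgroup G} {φ : centralizer ({z} : Set G) →* Spor.Co1}
  {cls : leechLattice → G → Prop}

theorem exists_fixed {σ : Equiv.Perm GolayPt} (h : σ ^ 7 = 1) : ∃ i j, i ≠ j ∧ σ i = i ∧ σ j = j := by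
  have : Fact (Nat.Prime 7) := ⟨by norm_num⟩
  have h1 := Equiv.Perm.card_compl_support_modEq (p := 7) (n := 1) (σ := σ) (by rwa [pow_one])
  rw [H15.card_golayPt, Nat.ModEq] at h1
  obtain ⟨i, hi, j, hj, e⟩ := Finset.one_lt_card.1 (show 1 < σ.supportᶜ.card by omega)
  exact ⟨i, j, e, by simpa using hi, by simpa using hj⟩

theorem mono_fix {σ : Equiv.Perm GolayPt} (hσ : σ ∈ M24) {c : Finset GolayPt} (hc : c ∈ code)
    (h : mono σ hσ c hc ^ 7 ∈ center Co0) :
    ∃ τ : M24, mono σ hσ c hc • mk2 (permHom τ • Spor.leechU) = mk2 (permHom τ • Spor.leechU) := by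
  obtain ⟨ρ, hρ⟩ := exists_monoPerm
  obtain ⟨i, j, hij, hi, hj⟩ := exists_fixed (σ := σ) (by
    obtain ⟨d, hd, e⟩ := mem_epsGroup.1 (center_le_epsGroup h)
    have h1 := congrArg (· ^ 7) (hρ σ hσ c hc)
    simp only [← map_pow] at h1
    rw [show (⟨mono σ hσ c hc, _⟩ : monoGroup) ^ 7 = ⟨_, mono_mem M24.one_mem hd⟩ from Subtype.ext e, hρ] at h1
    exact (congrArg Subtype.val h1).symm)
  obtain ⟨τ, hτ, ti, tj⟩ := H15.M24_trans2 (a := none) (b := some 0) (by decide) hij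
  refine ⟨⟨τ, hτ⟩, ?_⟩
  have hu : permHom ⟨τ, hτ⟩ • Spor.leechU + permHom ⟨τ, hτ⟩ • Spor.leechU = e8 i + e8 j := by
    rw [← smul_add, show Spor.leechU + Spor.leechU = e8 none + e8 (some 0) from
      Subtype.ext (funext (by decide +kernel)), smul_add, permHom_smul_e8, permHom_smul_e8, ti, tj]
  generalize permHom ⟨τ, hτ⟩ • Spor.leechU = u at hu
  have dbl : ∀ {a b : leechLattice}, a + a = b + b → a = b := fun h => Subtype.ext (funext fun p => by
    have := congrFun (congrArg Subtype.val h) p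
    simp only [AddSubgroup.coe_add, Pi.add_apply] at this
    omega)
  have k : ∀ p, σ p = p → mono σ hσ c hc • mk2 (e8 p) = mk2 (e8 p) := fun p hp => by
    rw [smul_mk2, mono_smul_e8, hp]
    split_ifs
    exacts [mk2_neg _, rfl]
  obtain ⟨ε, h1, h2⟩ : ∃ ε, mono σ hσ c hc • ε = ε ∧ mono σ hσ c hc • mk2 u = mk2 u + ε := by
    have hγ := congrArg (mono σ hσ c hc • ·) hu
    simp only [smul_add, mono_smul_e8, hi, hj] at hγ
    rw [smul_mk2]
    split_ifs at hγ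
    · exact ⟨0, smul_zero _, by rw [dbl (hγ.trans (by rw [← neg_add, ← hu, neg_add])), mk2_neg, add_zero]⟩
    · exact ⟨_, k i hi, by rw [dbl (b := u + -e8 i) (hγ.trans (by rw [add_add_add_comm, hu]; abel)), map_add, mk2_neg]⟩
    · exact ⟨_, k j hj, by rw [dbl (b := u + -e8 j) (hγ.trans (by rw [add_add_add_comm, hu]; abel)), map_add, mk2_neg]⟩
    · exact ⟨0, smul_zero _, by rw [dbl (hγ.trans hu.symm), add_zero]⟩
  generalize mono σ hσ c hc = γ at h h1 h2
  have h3 : γ ^ 2 ∈ MulAction.stabilizer Co0 (mk2 u) := by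
    rw [MulAction.mem_stabilizer_iff, sq, mul_smul, h2, smul_add, h2, h1, add_assoc, L2_add_self, add_zero]
  have h4 := MulAction.mem_stabilizer_iff.1 (pow_mem h3 4)
  rwa [← pow_mul, pow_succ' γ 7, mul_smul, center_smul h] at h4

theorem exists_t [Finite G] (M : Mon z Q φ cls) {k : G} (hs : k * z * k⁻¹ ∈ Q) (hne : k * z * k⁻¹ ≠ z)
    {b : centralizer ({z} : Set G)} (ob : orderOf b = 7) (hb : (b : G) * (k * z * k⁻¹) = k * z * k⁻¹ * b) :
    ∃ t ∈ Q, k⁻¹ * t * k ∈ Q ∧ (b : G) * t = t * b ∧ t ≠ 1 ∧ ¬ IsConj z t := by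
  obtain ⟨v, hv, h64⟩ := M.norm64_of_isConj hs (isConj_of_conj rfl) hne
  obtain ⟨δ, hδ⟩ := M.exists_twist h64 hv
  have M1 := M.twist δ
  obtain ⟨_, ⟨σ, hσ, c, hc, rfl⟩, e⟩ := (M1.map_cent_eq hδ).le ⟨b, ⟨b.2, mem_cent_iff.2 hb⟩, rfl⟩
  obtain ⟨τ, hτ⟩ := mono_fix hσ hc ((QuotientGroup.eq_one_iff _).1 (by
    rw [← QuotientGroup.mk'_apply, map_pow, e, ← map_pow, ← ob, pow_orderOf_eq_one, map_one]))
  obtain ⟨t, ht⟩ := M1.ex_elt (permHom τ • Spor.leechU)
  have h32 : sqNorm ((permHom τ • Spor.leechU : leechLattice) : GolayPt → ℤ) = 32 := by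
    rw [sqNorm_co0, sqNorm_leechU]
  have h0 := (M1.cg_zero_iff ht).not.1 (Mon.not_cg_zero (.inl h32))
  obtain ⟨h1, x, hx, ex⟩ := (M1.twist (permHom τ)⁻¹).mem_E (t := t) (M.pair hs hne) (M.card_conj k)
    (M1.congr hδ (by rw [inv_inv]; exact (mem_monoGroup_iff_cg.1 (permHom_mem τ)).symm))
    (by rw [inv_inv]; exact ht)
  refine ⟨t, h1, by rw [← ex]; simpa [mul_assoc] using hx, (M1.comm_iff_fix e (by rw [ob]; decide) ht).2 hτ,
    fun h => h0 (.inl h), fun h => ?_⟩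
  obtain ⟨w, hw, h2⟩ := M1.norm64_of_isConj h1 h fun h => h0 (.inr h)
  have := ((M1.eq_iff hw ht).2 (.inl rfl)).norm_eq h2.le (by omega)
  omega

theorem odd_cent' [Finite G] (M : Mon z Q φ cls) {b : centralizer ({z} : Set G)} {γ : Co0}
    (hγ : (QuotientGroup.mk γ : Spor.Co1) = φ b) (ob : Odd (orderOf b)) (oγ : Odd (orderOf γ))
    {w : ℕ} {T : Type*} [Group T] {θ : centralizer ({γ} : Set Co0) →* T} (D : CentData γ w θ)
    (hT : pCore 2 T = ⊥) {s : G} (hs : s ∈ Q) (hc : IsConj z s) (hne : s ≠ z)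
    (hbs : (b : G) * s = s * b) {B : Subgroup G} (hB : B = zpowers (b : G))
    [(B.subgroupOf (centralizer (B : Set G))).Normal] :
    ∃ (hz : z ∈ centralizer (B : Set G)) (y : centralizer (B : Set G) ⧸ B.subgroupOf (centralizer (B : Set G)))
      (Θ : centralizer ({y} : Set _) →* T), y = QuotientGroup.mk' _ ⟨z, hz⟩ ∧
      Θ.ker.map (centralizer ({y} : Set _)).subtype = ((Q ⊓ centralizer (B : Set G)).subgroupOf
        (centralizer (B : Set G))).map (QuotientGroup.mk' _) ∧ Function.Surjective Θ ∧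
      IsExtraspecialCentralizerSetting y Θ.ker w ∧
      {x : centralizer ({y} : Set _) | x ∈ Θ.ker ∧ IsConj y x}.ncard = 1 + 2 * (Xn γ 64).ncard := by
  have hK : ∀ {x}, x ∈ centralizer (B : Set G) ↔ (b : G) * x = x * b := by
    intro x
    rw [hB, zpowers_eq_closure, centralizer_closure, mem_cent_iff, eq_comm]
  have hodd : Odd (Nat.card B) := by rwa [hB, Nat.card_zpowers, orderOf_coe]
  have hz : z ∈ centralizer (B : Set G) := hK.2 (mem_cent_iff.1 b.2)
  have hBB : B ≤ centralizer (B : Set G) := by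
    conv_lhs => rw [hB]
    exact zpowers_le.2 (hK.2 rfl)
  have hBz : B ≤ centralizer ({z} : Set G) := hB ▸ zpowers_le.2 b.2
  have hconj : ∀ {s}, s ∈ Q → (b : G) * s = s * b → IsConj z s →
      ∃ k ∈ centralizer (B : Set G), k * z * k⁻¹ = s := by
    intro s hs hbs hc
    by_cases hne : s = z
    · exact ⟨1, one_mem _, by simp [hne]⟩
    obtain ⟨g, rfl⟩ := isConj_iff.1 hc
    exact (M.pair hs hne).exists_conj_odd hodd hz (hK.2 hbs)
  have hs1 : s ≠ 1 := fun e => M.h.ne_one (isConj_one_left.1 (e ▸ hc))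
  have hR : ES (Q ⊓ centralizer (B : Set G)) z :=
    (M.h.toES.cent_odd (fun u hu => M.h.norm u (mem_cent_iff.1 (hBz hu))) hodd).resolve_left
      fun e => by
        rcases M.h.toES.mem_zpowers.1 (e.le (mem_inf.2 ⟨hs, hK.2 hbs⟩))
          with f | f
        exacts [hs1 f, hne f]
  -- the homomorphism on `C(z) ⊓ C(B)`
  have hθ : ∀ δ ε : centralizer ({γ} : Set Co0),
      (QuotientGroup.mk (δ : Co0) : Spor.Co1) = QuotientGroup.mk (ε : Co0) → θ δ = θ ε := by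
    intro δ ε e
    rw [← inv_mul_eq_one, ← map_inv, ← map_mul, D.ker, coe_mul, coe_inv, QuotientGroup.mk_mul,
      QuotientGroup.mk_inv, e, inv_mul_cancel]
    exact one_mem _
  have hl : ∀ h : (centralizer ({z} : Set G) ⊓ centralizer (B : Set G) : Subgroup G),
      ∃ δ : centralizer ({γ} : Set Co0), (QuotientGroup.mk δ : Spor.Co1) = φ ⟨h, h.2.1⟩ := fun h =>
    exists_cent_lift oγ (by
      rw [hγ, ← map_mul, ← map_mul]; exact congrArg φ (Subtype.ext (hK.1 h.2.2).symm))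
  choose f hf using hl
  let θ₀ : (centralizer ({z} : Set G) ⊓ centralizer (B : Set G) : Subgroup G) →* T :=
    MonoidHom.mk' (fun h => θ (f h)) fun x y => by
      rw [← map_mul]
      refine hθ _ _ ?_
      rw [coe_mul, QuotientGroup.mk_mul, hf, hf, hf, ← map_mul]; rfl
  have θsurj : Function.Surjective θ₀ := by
    intro t
    obtain ⟨δ, rfl⟩ := D.surj t
    have hp : IsPGroup 2 φ.ker := isPGroup_of_pow 2 fun x hx =>
      Subtype.ext (M.h.pow_four ((M.ker x).1 hx))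
    have h1 := H2.map_centralizer_of_surjective (A := zpowers b) φ M.surj
      (coprime_of_odd_of_isPGroup (by rwa [Nat.card_zpowers]) hp) (Or.inl (H2.isSolvable_zpowers b))
    rw [MonoidHom.map_zpowers, zpowers_eq_closure, zpowers_eq_closure, centralizer_closure,
      centralizer_closure] at h1
    obtain ⟨c, hc, e⟩ : (QuotientGroup.mk δ : Spor.Co1) ∈ (centralizer {b}).map φ := by
      rw [h1, mem_cent_iff, ← hγ, ← QuotientGroup.mk_mul, mem_cent_iff.1 δ.2]; rfl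
    exact ⟨⟨c, c.2, hK.2 (congrArg Subtype.val (mem_cent_iff.1 hc)).symm⟩,
      hθ _ _ ((hf _).trans e)⟩
  have θker : ∀ h, θ₀ h = 1 ↔ ∃ u ∈ B, u⁻¹ * h ∈ Q := by
    intro h
    change θ (f h) = 1 ↔ _
    rw [D.ker, hf, hγ]
    constructor
    · rintro ⟨n, hn⟩
      refine ⟨(b : G) ^ n, hB ▸ zpow_mem (mem_zpowers _) n, (M.ker ((b ^ n)⁻¹ * ⟨h, h.2.1⟩)).1 ?_⟩
      rw [map_mul, map_inv, map_zpow, inv_mul_eq_one]
      exact hn
    · rintro ⟨u, hu, hq⟩
      rw [hB] at hu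
      obtain ⟨n, rfl⟩ := hu
      have := (M.ker ((b ^ n)⁻¹ * ⟨h, h.2.1⟩)).2 hq
      rw [map_mul, map_inv, map_zpow, inv_mul_eq_one] at this
      exact ⟨n, this⟩
  have hL := M.h.quot_odd hodd hz hR (fun c hc hx => by
    refine (θker ⟨c, mem_cent_iff.2 (hx z hR.mem).symm, hc⟩).1 (D.faith _ fun x hxγ => ?_)
    obtain ⟨v, rfl⟩ := mk2_surj x
    obtain ⟨a, ha⟩ := M.ex_elt v
    exact mk2_eq.2 (M.cg_of_comm ha
      (hx a ⟨M.mem ha, hK.2 ((M.comm_iff_fix hγ ob ha).2 hxγ)⟩).symm (hf _))) hBB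
  set π := QuotientGroup.mk' (B.subgroupOf (centralizer (B : Set G))) with hπ
  set z' : centralizer (B : Set G) := ⟨z, hz⟩ with hz'
  have z4 : z' ^ 4 = 1 := Subtype.ext (M.h.pow_four M.h.mem)
  let μ : (centralizer ({z} : Set G) ⊓ centralizer (B : Set G) : Subgroup G) →*
      centralizer ({π z'} : Set _) :=
    (π.comp (inclusion inf_le_right)).codRestrict _ fun h => mem_cent_iff.2 (by
      rw [MonoidHom.comp_apply, ← map_mul, ← map_mul]
      exact congrArg π (Subtype.ext (mem_cent_iff.1 h.2.1)))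
  have μsurj : Function.Surjective μ := by
    rintro ⟨d, hd⟩
    obtain ⟨k, rfl⟩ := QuotientGroup.mk'_surjective _ d
    have := eq_of_mk_eq hodd (conj_pow_four k z4) z4 (by
      rw [map_mul, map_mul, map_inv, mul_inv_eq_iff_eq_mul]; exact mem_cent_iff.1 hd)
    exact ⟨⟨k, mem_cent_iff.2 (mul_inv_eq_iff_eq_mul.1 (congrArg Subtype.val this)), k.2⟩, rfl⟩
  have μinj : ∀ x y : (centralizer ({z} : Set G) ⊓ centralizer (B : Set G) : Subgroup G),
      (x : G) ∈ Q → (y : G) ∈ Q → μ x = μ y → x = y := fun x y hx hy e =>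
    Subtype.ext (congrArg (fun t : centralizer (B : Set G) => (t : G))
      (eq_of_mk_eq hodd (x := ⟨x, x.2.2⟩) (y := ⟨y, y.2.2⟩)
      (Subtype.ext (M.h.pow_four hx)) (Subtype.ext (M.h.pow_four hy)) (congrArg Subtype.val e)))
  let θ' := μ.liftOfSurjective μsurj ⟨θ₀, fun h hh => (θker h).2
    ⟨h, mem_subgroupOf.1 ((QuotientGroup.eq_one_iff (N := B.subgroupOf (centralizer (B : Set G)))
      ⟨h, h.2.2⟩).1 (congrArg Subtype.val hh)), by simp⟩⟩
  have hθ' : ∀ h, θ' (μ h) = θ₀ h := fun h => MonoidHom.liftOfRightInverse_comp_apply _ _ _ _ h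
  have θ'surj : Function.Surjective θ' := fun y => by
    obtain ⟨h, rfl⟩ := θsurj y
    exact ⟨_, hθ' h⟩
  have hker : ∀ d, d ∈ θ'.ker ↔ ∃ h : (centralizer ({z} : Set G) ⊓ centralizer (B : Set G) :
      Subgroup G), (h : G) ∈ Q ∧ μ h = d := by
    intro d
    constructor
    · intro hd
      obtain ⟨h, rfl⟩ := μsurj d
      obtain ⟨u, hu, hq⟩ := (θker h).1 ((hθ' h).symm.trans hd)
      have h1 : μ ⟨u, hBz hu, hBB hu⟩ = 1 := Subtype.ext ((QuotientGroup.eq_one_iff _).2 hu)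
      exact ⟨⟨u, hBz hu, hBB hu⟩⁻¹ * h, hq, by rw [map_mul, map_inv, h1, inv_one, one_mul]⟩
    · rintro ⟨h, hq, rfl⟩
      exact (hθ' h).trans ((θker h).2 ⟨1, one_mem _, by simpa using hq⟩)
  have hR' : θ'.ker.map (centralizer ({π z'} : Set _)).subtype =
      ((Q ⊓ centralizer (B : Set G)).subgroupOf (centralizer (B : Set G))).map π := by
    ext y
    constructor
    · rintro ⟨d, hd, rfl⟩
      obtain ⟨h, hq, rfl⟩ := (hker d).1 hd
      exact ⟨⟨h, h.2.2⟩, ⟨hq, h.2.2⟩, rfl⟩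
    · rintro ⟨k, hk, rfl⟩
      exact ⟨μ ⟨k, M.h.le_centralizer hk.1, k.2⟩, (hker _).2 ⟨_, hk.1, rfl⟩, rfl⟩
  -- counting
  have hcount : ∀ (P : G → Prop) (P' : centralizer ({π z'} : Set _) → Prop),
      (∀ h : (centralizer ({z} : Set G) ⊓ centralizer (B : Set G) : Subgroup G),
        (h : G) ∈ Q → (P' (μ h) ↔ P h)) →
      {x | x ∈ θ'.ker ∧ P' x}.ncard = {x | x ∈ Q ∧ (b : G) * x = x * b ∧ P x}.ncard := by
    intro P P' hP
    symm
    refine Set.ncard_congr (fun x hx => μ ⟨x, M.h.le_centralizer hx.1, hK.2 hx.2.1⟩) ?_ ?_ ?_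
    · exact fun x hx => ⟨(hker _).2 ⟨_, hx.1, rfl⟩, (hP _ hx.1).2 hx.2.2⟩
    · exact fun x y hx hy e => congrArg Subtype.val (μinj _ _ hx.1 hy.1 e)
    · rintro d ⟨hd, hd'⟩
      obtain ⟨h, hq, rfl⟩ := (hker d).1 hd
      exact ⟨h, ⟨hq, hK.1 h.2.2, (hP h hq).1 hd'⟩, rfl⟩
  rw [← hR'] at hL
  obtain ⟨k, hk, ek⟩ := hconj hs hbs hc
  have ec : π ⟨k, hk⟩ * π z' * (π ⟨k, hk⟩)⁻¹ = π ⟨s, hK.2 hbs⟩ := by
    rw [← map_inv, ← map_mul, ← map_mul]; exact congrArg π (Subtype.ext ek)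
  refine ⟨hz, π z', θ', rfl, hR', θ'surj, setting_of_L3 hL (pCore_le_ker θ'surj hT) ?_ (g := π ⟨k, hk⟩) ?_ ?_, ?_⟩
  · have h1 := hcount (fun _ => True) (fun _ => True) fun _ _ => Iff.rfl
    have h2 := M.ncard_cls {x | γ • x = x}
    rw [D.card] at h2
    simp only [and_true] at h1
    rw [pow_succ', ← h2]
    refine h1.trans (congrArg Set.ncard (Set.ext fun x => ⟨fun hx => ?_, ?_⟩))
    · obtain ⟨v, hv⟩ := M.ex_cls x hx.1
      exact ⟨v, hv, (M.comm_iff_fix hγ ob hv).1 hx.2⟩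
    · rintro ⟨v, hv, h⟩
      exact ⟨M.mem hv, (M.comm_iff_fix hγ ob hv).2 h⟩
  · rw [ec, hR']; exact ⟨_, ⟨hs, hK.2 hbs⟩, rfl⟩
  · rw [ec]
    exact fun e => hne (congrArg Subtype.val
      (eq_of_mk_eq hodd (Subtype.ext (M.h.pow_four hs)) z4 e))
  · rw [hcount (IsConj z) (fun x => IsConj (π z') x) fun h hq => ?_, ← M.ncard_cls, add_comm,
      ← Set.ncard_insert_of_notMem (a := z)]
    · refine congrArg Set.ncard (Set.ext fun x => ⟨fun hx => ?_, ?_⟩)
      · by_cases e : x = z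
        · exact Or.inl e
        · obtain ⟨v, hv, hn⟩ := M.norm64_of_isConj hx.1 hx.2.2 e
          exact Or.inr ⟨v, hv, (M.comm_iff_fix hγ ob hv).1 hx.2.1, v, rfl, hn⟩
      · rintro (e | ⟨v, hv, h1, u, hu, hn⟩)
        · rw [e]; exact ⟨M.h.mem, hK.1 hz, IsConj.refl _⟩
        · exact ⟨M.mem hv, (M.comm_iff_fix hγ ob hv).2 h1,
            M.isConj_of_norm64 hs hc hne (M.congr hv (mk2_eq.1 hu).symm) hn⟩
    · rintro ⟨v, hv, -, u, hu, hn⟩
      exact Mon.not_cg_zero (Or.inr hn)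
        (((M.cg_zero_iff hv).2 (Or.inr rfl)).trans (mk2_eq.1 hu).symm)
    · constructor
      · intro e
        obtain ⟨g, e⟩ := isConj_iff.1 e
        obtain ⟨k, rfl⟩ := QuotientGroup.mk'_surjective _ g
        exact isConj_of_conj (congrArg Subtype.val (eq_of_mk_eq hodd (y := ⟨h, h.2.2⟩)
          (conj_pow_four k z4) (Subtype.ext (M.h.pow_four hq)) (by
            rw [map_mul, map_mul, map_inv]; exact e)))
      · intro e
        obtain ⟨k, hk, e⟩ := hconj hq (hK.1 h.2.2) e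
        refine isConj_of_conj (g := π ⟨k, hk⟩) ?_
        rw [← map_inv, ← map_mul, ← map_mul]
        exact congrArg π (Subtype.ext e)

end H49.Mo
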