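import Cfsg.Agent.Lib.Held.Cls

/-!
# Kernel checks for the element of order three that extends `N_H(U₁)` (helper49)
-/

set_option autoImplicit false

namespace H49.He

open H54 (force sel band bor bimp force_eq band_eq_true bor_eq_true bimp_eq_true allL allL_iff
  anyL anyL_iff allLt allLt_iff tb tb_eq)
open H18.TC (ev ev_cons ev_nil ltAll ltAll_spec)
open Subgroup

theorem frc {α : Type} (x : ℕ) (f : ℕ → α) : force x f = f x := (force_eq x f).trans (Eq.refl _)

theorem mul5_assoc (a b c : ℕ) : a ⋆ b ⋆ c = a ⋆ (b ⋆ c) :=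
  mat_inj (mul5_lt _ _) (mul5_lt _ _) (by simp only [mat_mul, mul_assoc])

/-- the centraliser of `z` and `e14` -/ def mC : ℕ := nat_lit 0xe739c
/-- its complement `S₄` -/ def mS : ℕ := nat_lit 0xe7000
/-- the third generator of `S₄` -/ def t3 : ℕ := nat_lit 0x1047041
/-- row operation of order three -/ def ro : ℕ := nat_lit 0x1041062
/-- its inverse -/ def ro' : ℕ := nat_lit 0x1041023
/-- the four classes of complements -/
def yy (j i : ℕ) : ℕ := pk (nat_lit 0x820821c11c1460c20a3043051820821c11c1060c2083043049820821c11c1260c20a3043051820821c11c1060c2083043041) (Nat.add (Nat.mul 4 j) i)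
/-- the elements of `U₁` -/
def uu (i : ℕ) : ℕ := Nat.lor I5 (Nat.lor (Nat.shiftLeft (Nat.land i 7) 2) (Nat.shiftLeft (Nat.shiftRight i 3) 7))
/-- the patterns of the main case -/
def mainX : List ℕ := [23, 87, 151, 215]

/-- the action of the element of order three on `U₁` -/
noncomputable def om (a : ℕ) : ℕ := ro ⋆ a ⋆ ro'

/-- the number of `b` with `b`, `u b`, `v b` in `X` -/
noncomputable def prs2 (m X u v : ℕ) : ℕ := force u fun u => force v fun v =>
  cntM m fun b => band (dd X b) (band (dd X (u ⋆ b)) (dd X (v ⋆ b)))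

theorem swap_chk : allL (fun X => force (prs2 mU1 X z0 e14) fun n => allM mU1 fun a =>
    bimp (dd X a) (bimp (dd X (a ⋆ z0)) (bimp (Nat.beq (prs2 mU1 X a z0) n)
      (bor (Nat.beq a e14) (Nat.beq a (e14 ⋆ z0)))))) mainX = true := by decide +kernel

theorem C_chk : allK mL mQ (fun a => band (bimp (cm a e14) (inM mC a)) (bimp (inM mC a)
    (band (cm a e14) (force (prj mS a) fun s => band (ok s) (inM mU1 (a ⋆ iv s)))))) = true := by
  decide +kernel

/-- equal to the identity -/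
noncomputable def isI (a : ℕ) : Bool := Nat.beq a I5

/-- the elements of `S₄` -/
def sS : ℕ := nat_lit 0x863820c29c10608e083027041873020c2981060cc083026041872820c3141060ca083045041861820c28c106086083023041871020c2881060c4083022041870820c3041060c2083041041

theorem S_chk : allM mS (fun a => bimp (sq1 a) (allM mS fun b => bimp (sq1 b)
    (bimp (isI (a ⋆ b ⋆ (a ⋆ b) ⋆ (a ⋆ b))) (bor (isI (a ⋆ b)) (allM mS fun c => bimp (sq1 c)
    (bimp (isI (b ⋆ c ⋆ (b ⋆ c) ⋆ (b ⋆ c))) (bor (isI (b ⋆ c)) (bimp (sq1 (a ⋆ c)) (bor (isI (a ⋆ c))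
    (anyL (fun i => force (pk sS i) fun k => band (band (ok k) (inM mS k))
      (band (Nat.beq (cj k a) e23) (band (Nat.beq (cj k b) e32) (Nat.beq (cj k c) t3))))
      (List.range 24))))))))))) = true := by
  decide +kernel

theorem mu_chk : allM mU1 (fun u => bimp (Nat.beq (cj e32 u) u)
    (bimp (isI (u ⋆ cj e23 u ⋆ cj e32 (cj e23 u)))
    (band (bimp (Nat.beq (cj t3 u) (cj e23 u ⋆ e14)) (Nat.beq u e12))
      (bimp (Nat.beq (cj t3 u) (cj e23 u ⋆ z0)) (Nat.beq u e02))))) = true := by decide +kernel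

/-- exchange of the rows -/
noncomputable def sw (a : ℕ) : ℕ := nat_lit 0x1041022 ⋆ a ⋆ nat_lit 0x1041022

theorem om_chk : allM mU1 (fun a => band (band (inM mU1 (cj e01 a)) (Nat.beq (sw (cj e01 a)) (om a)))
    (band (band (inM mU1 (om a)) (Nat.beq (om (om (om a))) a))
    (band (band (Nat.beq (om (om a) ⋆ om a) a) (bimp (Nat.beq (om a) a) (isI a)))
      (Nat.beq (cj e01 (om (cj e01 (om a)))) a)))) = true := by decide +kernel

/-- an element of `U₁` is trivial -/
noncomputable def tst (c : ℕ) : Bool := force c fun c => bimp (inM mU1 c) (isI c)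

theorem type_chk : allM mU1 (fun v => force (v ⋆ e23) fun a => bimp (tst (a ⋆ a))
    (allM mU1 fun v => force (v ⋆ e32) fun b => bimp (tst (b ⋆ b))
    (bimp (tst (a ⋆ b ⋆ (a ⋆ b) ⋆ (a ⋆ b))) (allM mU1 fun v => force (v ⋆ t3) fun c => bimp (tst (c ⋆ c))
    (bimp (tst (b ⋆ c ⋆ (b ⋆ c) ⋆ (b ⋆ c))) (bimp (tst (a ⋆ c ⋆ (a ⋆ c)))
    (allM mU1 fun v => force (v ⋆ e01) fun n => bimp (tst (n ⋆ n)) (bimp (tst (n ⋆ a ⋆ (n ⋆ a)))
    (bimp (tst (n ⋆ b ⋆ (n ⋆ b))) (bimp (tst (n ⋆ c ⋆ (n ⋆ c)))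
    (anyL (fun i => force (uu i) fun u => anyL (fun j => band (Nat.beq (cj u a) (yy j 0))
      (band (Nat.beq (cj u b) (yy j 1)) (band (Nat.beq (cj u c) (yy j 2)) (band (Nat.beq (cj u n) (yy j 3))
      (inM mU1 u))))) [0, 1, 2, 3]) (List.range 64)))))))))))) = true := by
  decide +kernel

theorem excl_chk : allL (fun X => allLt (fun j => band
    (band (band (inM mU2 (yy j 0 ⋆ z0)) (inM mU2 (yy j 0 ⋆ om z0))) (band (ok (yy j 0)) (ok (yy j 2))))
    (band (band (inM mU2 (yy j 0 ⋆ yy j 2 ⋆ e03)) (inM mU2 (yy j 0 ⋆ yy j 2 ⋆ om e03)))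
    (bimp (dd X (yy j 0 ⋆ z0) == dd X (yy j 0 ⋆ om z0))
    (bimp (dd X (yy j 0 ⋆ yy j 2 ⋆ e03) == dd X (yy j 0 ⋆ yy j 2 ⋆ om e03))
      (Nat.beq j (Nat.shiftRight X 7)))))) 4) mainX = true := by decide +kernel

theorem isI_iff {a : ℕ} : isI a = true ↔ a = I5 := Nat.beq_eq ▸ Iff.rfl

theorem okU {a : ℕ} (h : inM mU1 a = true) : ok a = true := ok_of_T (inM_mono h rfl)

attribute [irreducible] isI prs2 tst sw

end H49.He
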