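import Cfsg.Agent.Lib.Held.Node

/-!
# A group with a Sylow 2-subgroup `UT₅(2)`: coordinates on the Sylow subgroup (helper49)
-/

set_option autoImplicit false

namespace H49.He

open H54 (force sel band bor bimp force_eq band_eq_true bor_eq_true bimp_eq_true allL allL_iff
  anyL anyL_iff allLt allLt_iff tb tb_eq)
open Subgroup

theorem mulT {a b : ℕ} (ha : inM mT a = true) (hb : inM mT b = true) : inM mT (a ⋆ b) = true :=
  inM_mul (by decide) ha hb

theorem ivT_mem {a : ℕ} (h : inM mT a = true) : inM mT (iv a) = true :=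
  (emb_sl.mem_sub_iff (ok_iv (ok_of_T h))).1 (emb_sl.inv (ok_of_T h) ▸ inv_mem (mem_sub_of h (ok_of_T h)))

theorem cjT {k a : ℕ} (hk : inM mT k = true) (ha : inM mT a = true) : inM mT (cj k a) = true :=
  cj_eq k a ▸ mulT (mulT hk ha) (ivT_mem hk)

theorem cj_mem (M m u : ℕ) {k a : ℕ} (hk : ok k = true) (hM : inM M k = true) (ha : ok a = true)
    (hu : inM u a = true) (h : Quo M m ∧ Closed u ∧ M = m ||| u ∧ m &&& u = 0 := by decide) :
    inM u (cj k a) = true := by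
  rw [← emb_sl.mem_sub_iff (ok_cj hk ha) h.2.1, emb_sl.cj hk ha]
  exact norm_conj (emb_sl.le_norm M m u h (mem_sub_of hM hk)) (mem_sub_of hu ha)

theorem zT : inM mT z0 = true := by decide +kernel

variable {G : Type*} [Group G]

theorem mem_of_sq [Finite G] (S : Sylow 2 G) {K : Subgroup G} (hK : (S : Subgroup G) ≤ K) {y : G}
    (hy : y ∈ normalizer (S : Set G)) (h : y * y ∈ K) : y ∈ K := by
  haveI : ((S : Subgroup G).subgroupOf (normalizer (S : Set G))).Normal := normal_in_normalizer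
  have h1 := pow_index_mem (H := (S : Subgroup G).subgroupOf (normalizer (S : Set G))) ⟨y, hy⟩
  obtain ⟨j, hj⟩ : Odd ((S : Subgroup G).subgroupOf (normalizer (S : Set G))).index := by
    rw [← Nat.not_even_iff_odd, even_iff_two_dvd]
    exact fun h => S.not_dvd_index (h.trans (relIndex_dvd_index_of_le le_normalizer))
  rw [hj, mem_subgroupOf, coe_pow, pow_succ, pow_mul, sq] at h1
  exact (mul_mem_cancel_left (pow_mem h j)).1 (hK h1)

/-- the codes of the upper unitriangular matrices parametrise a Sylow 2-subgroup -/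
structure EmT (g : ℕ → G) : Prop where
  mul : ∀ {a b}, inM mT a = true → inM mT b = true → g (a ⋆ b) = g a * g b
  inj : ∀ {a b}, inM mT a = true → inM mT b = true → g a = g b → a = b
  syl : ∃ S : Sylow 2 G, (S : Subgroup G) = sub g mT

theorem memT {g : ℕ → G} {m a : ℕ} (h : inM m a = true := by decide +kernel)
    (hm : m ||| mT = mT := by decide) : g a ∈ sub g m := mem_sub_of h (ok_of_T (inM_mono h hm))

namespace EmT

variable {g : ℕ → G}

theorem one (E : EmT g) : g I5 = 1 := by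
  have := E.mul (inM_I5 _) (inM_I5 _)
  rw [show I5 ⋆ I5 = I5 by decide +kernel] at this
  exact left_eq_mul.1 this

theorem inv (E : EmT g) {a : ℕ} (h : inM mT a = true) : g (iv a) = (g a)⁻¹ :=
  (inv_eq_of_mul_eq_one_right (by rw [← E.mul h (ivT_mem h), (iv_spec (ok_of_T h)).2, E.one])).symm

theorem cj (E : EmT g) {k a : ℕ} (hk : inM mT k = true) (ha : inM mT a = true) :
    g (cj k a) = g k * g a * (g k)⁻¹ := by
  rw [cj_eq, E.mul (mulT hk ha) (ivT_mem hk), E.mul hk ha, E.inv hk]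

theorem comm_z (E : EmT g) {a : ℕ} (h : inM mT a = true) : g a * g z0 = g z0 * g a := by
  rw [← E.mul h zT, mul_z0 (ok_of_T h), E.mul zT h]

theorem eq_iff (E : EmT g) {a b : ℕ} (ha : inM mT a = true) (hb : inM mT b = true) : g a = g b ↔ a = b :=
  ⟨E.inj ha hb, fun h => h ▸ rfl⟩

theorem eq_one (E : EmT g) {a : ℕ} (ha : inM mT a = true) : g a = 1 ↔ a = I5 := by
  rw [← E.one, E.eq_iff ha (inM_I5 _)]

theorem cm (E : EmT g) {a b : ℕ} (ha : inM mT a = true) (hb : inM mT b = true) :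
    cm a b = true ↔ g a * g b = g b * g a := by
  rw [cm_iff, ← E.mul ha hb, ← E.mul hb ha, E.eq_iff (mulT ha hb) (mulT hb ha)]

theorem sq1 (E : EmT g) {a : ℕ} (ha : inM mT a = true) : sq1 a = true ↔ g a * g a = 1 := by
  rw [sq1_iff, ← E.mul ha ha, E.eq_one (mulT ha ha)]

theorem mul_eq (E : EmT g) {a b c : ℕ}
    (h : band (band (inM mT a) (inM mT b)) (Nat.beq (a ⋆ b) c) = true := by decide +kernel) :
    g a * g b = g c := by
  rw [band_eq_true, band_eq_true, Nat.beq_eq] at h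
  rw [← E.mul h.1.1 h.1.2, h.2]

theorem mul_eq_mul (E : EmT g) {a b c d : ℕ}
    (h : band (band (band (inM mT a) (inM mT b)) (band (inM mT c) (inM mT d)))
      (Nat.beq (a ⋆ b) (c ⋆ d)) = true := by decide +kernel) : g a * g b = g c * g d := by
  simp only [band_eq_true, Nat.beq_eq] at h
  rw [← E.mul h.1.1.1 h.1.1.2, h.2, E.mul h.1.2.1 h.1.2.2]

theorem ne (E : EmT g) {a b : ℕ}
    (h : band (band (inM mT a) (inM mT b)) (!Nat.beq a b) = true := by decide +kernel) : g a ≠ g b := by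
  simp only [band_eq_true, Bool.not_eq_true', ← Bool.not_eq_true, Nat.beq_eq] at h
  exact fun e => h.2 (E.inj h.1.1 h.1.2 e)

theorem ne_one (E : EmT g) {a : ℕ}
    (h : band (band (inM mT a) (inM mT I5)) (!Nat.beq a I5) = true := by decide +kernel) : g a ≠ 1 :=
  E.one ▸ E.ne h

theorem zz (E : EmT g) : g z0 * g z0 = 1 := E.one ▸ E.mul_eq

theorem ord_z (E : EmT g) : orderOf (g z0) = 2 := H9.orderOf_eq_two_of_mul_self E.ne_one E.zz

theorem dz_sq (E : EmT g) {x : G} (h : Dz g x) : x * x = 1 ∧ x ≠ 1 := by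
  obtain ⟨y, rfl⟩ := isConj_iff.1 h
  exact ⟨by rw [conj_mul, E.zz, mul_one, mul_inv_cancel], fun e => absurd (conj_eq_one_iff.1 e) E.ne_one⟩

theorem ncard (E : EmT g) {m : ℕ} (hm : Closed m ∧ m ||| mT = mT) (P : ℕ → Bool) :
    {x | ∃ a, inM m a = true ∧ P a = true ∧ x = g a}.ncard = cntM m P := by
  rw [← cntM_spec P hm.1.1, ← Set.InjOn.ncard_image (f := g)]
  · congr 1
    ext x
    exact ⟨fun ⟨a, h1, h2, h3⟩ => ⟨a, ⟨h1, h2⟩, h3.symm⟩, fun ⟨a, ⟨h1, h2⟩, h3⟩ => ⟨a, h1, h2, h3.symm⟩⟩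
  · exact fun a ha b hb => E.inj (inM_mono ha.1 hm.2) (inM_mono hb.1 hm.2)

variable [Finite G]

theorem mem_T (E : EmT g) {m : ℕ} {x : G} (hm : Closed m ∧ m ||| mT = mT := by decide) :
    x ∈ sub g m ↔ ∃ a, inM m a = true ∧ x = g a := by
  refine ⟨fun h => ?_, fun ⟨a, h, e⟩ => e ▸ memT h hm.2⟩
  rw [sub, ← mem_toSubmonoid, Subgroup.closure_toSubmonoid_of_finite] at h
  induction h using Submonoid.closure_induction with
  | mem x hx => exact let ⟨a, _, h⟩ := hx; ⟨a, h⟩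
  | one => exact ⟨I5, inM_I5 _, E.one.symm⟩
  | mul x y _ _ hx hy =>
    obtain ⟨a, h6, rfl⟩ := hx
    obtain ⟨b, h4, rfl⟩ := hy
    exact ⟨a ⋆ b, inM_mul hm.1 h6 h4, (E.mul (inM_mono h6 hm.2) (inM_mono h4 hm.2)).symm⟩

theorem mem_iff (E : EmT g) {m a : ℕ} (ha : inM mT a = true)
    (hm : Closed m ∧ m ||| mT = mT := by decide) : g a ∈ sub g m ↔ inM m a = true := by
  rw [E.mem_T hm]
  exact ⟨fun ⟨b, h2, h3⟩ => E.inj ha (inM_mono h2 hm.2) h3 ▸ h2, fun h => ⟨a, h, rfl⟩⟩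

theorem card_sub (E : EmT g) {m : ℕ} (hm : Closed m ∧ m ||| mT = mT := by decide) :
    Nat.card (sub g m) = cntM m fun _ => true := by
  rw [← E.ncard hm, ← Nat.card_coe_set_eq]
  refine Nat.card_congr (Equiv.subtypeEquivRight fun x => ?_)
  rw [E.mem_T hm]
  exact ⟨fun ⟨a, h1, h3⟩ => ⟨a, h1, rfl, h3⟩, fun ⟨a, h1, _, h3⟩ => ⟨a, h1, h3⟩⟩

theorem card_T (E : EmT g) : Nat.card (sub g mT) = 2 ^ 10 := E.card_sub.trans (by decide +kernel)
theorem card_U1 (E : EmT g) : Nat.card (sub g mU1) = 64 := E.card_sub.trans (by decide +kernel)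
theorem card_U2 (E : EmT g) : Nat.card (sub g mU2) = 64 := E.card_sub.trans (by decide +kernel)

theorem two (E : EmT g) (m : ℕ) (h : m ||| mT = mT := by decide) : IsPGroup 2 (sub g m) :=
  (IsPGroup.of_card E.card_T).to_le (sub_mono g h)

theorem comm_z' (E : EmT g) {m : ℕ} {x : G} (h : x ∈ sub g m) (hm : m ||| mT = mT := by decide) :
    x * g z0 = g z0 * x := by
  obtain ⟨a, ha, rfl⟩ := E.mem_T.1 (sub_mono g hm h)
  exact E.comm_z ha

theorem T_le (E : EmT g) : sub g mT ≤ centralizer {g z0} := fun _ h =>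
  mem_centralizer_singleton_iff.2 (E.comm_z' h)

theorem le_norm (E : EmT g) (m u : ℕ)
    (h : Quo mT m ∧ Closed u ∧ mT = m ||| u ∧ m &&& u = 0 := by decide) :
    sub g mT ≤ normalizer (sub g u : Set G) := fun x hx => norm_of fun y hy => by
  have hu : u ||| mT = mT := by rw [h.2.2.1, Nat.or_comm m, ← Nat.or_assoc, Nat.or_self]
  obtain ⟨k, hk, rfl⟩ := E.mem_T.1 hx
  obtain ⟨a, ha, rfl⟩ := (E.mem_T ⟨h.2.1, hu⟩).1 hy
  rw [← E.cj hk (inM_mono ha hu)]
  exact memT (cj_mem mT m u (ok_of_T hk) hk (ok_of_T (inM_mono ha hu)) ha h) hu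

theorem norm_U1 (E : EmT g) : sub g mT ≤ normalizer (sub g mU1 : Set G) := E.le_norm 0x86002 _
theorem norm_U2 (E : EmT g) : sub g mT ≤ normalizer (sub g mU2 : Set G) := E.le_norm 0x80086 _

theorem conj_T (E : EmT g) {M P : Subgroup G} (hM : sub g mT ≤ M) (hP : IsPGroup 2 P) (h : P ≤ M) :
    ∃ x ∈ M, ∀ y ∈ P, x * y * x⁻¹ ∈ sub g mT := by
  obtain ⟨S, hS⟩ := E.syl
  rw [← hS] at hM ⊢
  exact H4.exists_conj_le_sylow_of_le S hM hP h

/-- a conjugate of `z` in `T` can be moved to `z` together with its centraliser in `T` -/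
theorem extremal (E : EmT g) {s : G} (h : Dz g s) :
    ∃ y, y * s * y⁻¹ = g z0 ∧ ∀ t ∈ sub g mT, t * s = s * t → y * t * y⁻¹ ∈ sub g mT := by
  obtain ⟨x, hx⟩ := isConj_iff.1 h.symm
  obtain ⟨c, hc, h1⟩ := E.conj_T E.T_le (P := cs x (sub g mT ⊓ centralizer {s}))
    ((E.two mT).to_inf_left.map _) (cs_le fun t ht => mem_centralizer_singleton_iff.2 (by
      rw [← hx, conj_mul, conj_mul, mem_centralizer_singleton_iff.1 ht.2]))
  refine ⟨c * x, ?_, fun t ht e => ?_⟩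
  · rw [mul_assoc c, mul_inv_rev, ← mul_assoc, mul_assoc c, hx, mem_centralizer_singleton_iff.1 hc,
      mul_inv_cancel_right]
  · convert h1 _ (mem_cs_of ⟨ht, mem_centralizer_singleton_iff.2 e⟩) using 1; group

theorem ab (E : EmT g) {m : ℕ} (hm : Closed m ∧ m ||| mT = mT)
    (c : allM m (fun a => band (He.sq1 a) (allM m (He.cm a))) = true) {x : G} (hx : x ∈ sub g m) :
    x * x = 1 ∧ ∀ y ∈ sub g m, x * y = y * x := by
  obtain ⟨a, h2, rfl⟩ := (E.mem_T hm).1 hx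
  have := allM_spec c hm.1.1 h2
  rw [band_eq_true] at this
  refine ⟨(E.sq1 (inM_mono h2 hm.2)).1 this.1, fun y hy => ?_⟩
  obtain ⟨b, h4, rfl⟩ := (E.mem_T hm).1 hy
  exact (E.cm (inM_mono h2 hm.2) (inM_mono h4 hm.2)).1 (allM_spec this.2 hm.1.1 h4)

theorem ab1 (E : EmT g) {x : G} (hx : x ∈ sub g mU1) : x * x = 1 ∧ ∀ y ∈ sub g mU1, x * y = y * x :=
  E.ab (by decide) ((band_eq_true _ _).1 ab_chk).1 hx

theorem ab2 (E : EmT g) {x : G} (hx : x ∈ sub g mU2) : x * x = 1 ∧ ∀ y ∈ sub g mU2, x * y = y * x :=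
  E.ab (by decide) ((band_eq_true _ _).1 ab_chk).2 hx

theorem e64 (E : EmT g) {A : Subgroup G} (h1 : A ≤ sub g mT) (h2 : Nat.card A = 64)
    (h3 : ∀ x ∈ A, x * x = 1 ∧ ∀ y ∈ A, x * y = y * x) : A = sub g mU1 ∨ A = sub g mU2 := by
  have : (A : Set G) ⊆ sub g mU1 ∪ sub g mU2 := fun x hx => by
    obtain ⟨a, ha, rfl⟩ := E.mem_T.1 (h1 hx)
    have := allM_spec e64_chk (by decide) ha
    simp only [bimp_eq_true, bor_eq_true, Nat.ble_eq] at this
    rcases this ((E.sq1 ha).2 (h3 _ hx).1) with h | h | h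
    · exact Or.inl (memT h)
    · exact Or.inr (memT h)
    rw [← E.ncard (by decide)] at h
    have h4 : (A : Set G).ncard ≤ 63 := (Set.ncard_le_ncard (fun y hy => ?_)).trans h
    · rw [← Nat.card_coe_set_eq] at h4
      exact absurd (h2 ▸ h4 : 64 ≤ 63) (by decide)
    obtain ⟨b, hb, rfl⟩ := E.mem_T.1 (h1 hy)
    exact ⟨b, hb, (band_eq_true _ _).2 ⟨(E.sq1 hb).2 (h3 _ hy).1, (E.cm ha hb).2 ((h3 _ hx).2 _ hy)⟩, rfl⟩
  exact (SubgroupClass.subset_union.1 this).imp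
    (fun h => eq_of_le_of_card_ge h (by rw [h2, E.card_U1]))
    (fun h => eq_of_le_of_card_ge h (by rw [h2, E.card_U2]))

theorem wc_aux (E : EmT g) {U : Subgroup G} (h2 : Nat.card U = 64)
    (h3 : ∀ x ∈ U, x * x = 1 ∧ ∀ y ∈ U, x * y = y * x) {x : G} (h : ∀ u ∈ U, x * u * x⁻¹ ∈ sub g mT) :
    cs x U = sub g mU1 ∨ cs x U = sub g mU2 :=
  E.e64 (cs_le h) ((card_cs _ _).trans h2) (by
    rintro _ ⟨a, ha, rfl⟩
    refine ⟨by rw [← map_mul, (h3 a ha).1, map_one], ?_⟩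
    rintro _ ⟨b, hb, rfl⟩
    rw [← map_mul, (h3 a ha).2 b hb, map_mul])

theorem not_conj (E : EmT g) {x : G} (h : ∀ u ∈ sub g mU1, x * u * x⁻¹ ∈ sub g mU2) : False := by
  have h0 : cs x (sub g mU1) = sub g mU2 :=
    eq_of_le_of_card_ge (cs_le h) (by rw [card_cs, E.card_U1, E.card_U2])
  obtain ⟨n, hn, h1⟩ := E.conj_T E.norm_U2 ((E.two mT).map (MulAut.conj x).toMonoidHom)
    (cs_le fun t ht => norm_of fun u hu => by
      rw [← h0, mem_cs] at hu ⊢
      convert norm_conj (E.norm_U1 ht) hu using 1; group)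
  have h2 : n * x ∈ normalizer (sub g mT : Set G) := norm_of fun t ht => by
    convert h1 _ (mem_cs_of ht) using 1; group
  have h3 : ∀ u ∈ sub g mU1, n * x * u * (n * x)⁻¹ ∈ sub g mU2 := fun u hu => by
    convert norm_conj hn (h u hu) using 1; group
  generalize n * x = y at h2 h3
  have h4 : cs y (sub g mU1) = sub g mU2 :=
    eq_of_le_of_card_ge (cs_le h3) (by rw [card_cs, E.card_U1, E.card_U2])
  have h5 : g e12 ∉ sub g mU2 := fun h => absurd ((E.mem_iff (by decide +kernel)).1 h) (by decide +kernel)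
  obtain ⟨S, hS⟩ := E.syl
  rcases E.wc_aux E.card_U2 (fun _ => E.ab2) (x := y) (fun u hu =>
    norm_conj h2 (sub_mono g (m' := mT) (by decide) hu)) with e | e
  · have h6 : y ∈ normalizer (sub g mU1 : Set G) := mem_of_sq S (hS ▸ E.norm_U1)
      (by rw [← Sylow.coe_coe, hS]; exact h2) (norm_of fun u hu => by
        convert (e ▸ mem_cs_of (h3 u hu) : _ ∈ sub g mU1) using 1; group)
    exact h5 (by simpa [mul_assoc] using h3 _ (norm_conj' h6 (memT (a := e12))))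
  · have := h3 _ (memT (a := e12))
    rw [← e, mem_cs] at this
    exact h5 (by simpa [mul_assoc] using this)

theorem wc1 (E : EmT g) (x : G) (h : ∀ u ∈ sub g mU1, x * u * x⁻¹ ∈ sub g mT) :
    x ∈ normalizer (sub g mU1 : Set G) := by
  rcases E.wc_aux E.card_U1 (fun _ => E.ab1) h with e | e
  · exact norm_of fun u hu => e ▸ mem_cs_of hu
  · exact (E.not_conj fun u hu => e ▸ mem_cs_of hu).elim

theorem wc2 (E : EmT g) (x : G) (h : ∀ u ∈ sub g mU2, x * u * x⁻¹ ∈ sub g mT) :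
    x ∈ normalizer (sub g mU2 : Set G) := by
  rcases E.wc_aux E.card_U2 (fun _ => E.ab2) h with e | e
  · exact (E.not_conj (x := x⁻¹) fun u hu => by rw [inv_inv, ← mem_cs, e]; exact hu).elim
  · exact norm_of fun u hu => e ▸ mem_cs_of hu

theorem fuse1 (E : EmT g) {u v : G} (hu : u ∈ sub g mU1) (hv : v ∈ sub g mU1) (h : IsConj u v) :
    ∃ m ∈ normalizer (sub g mU1 : Set G), m * u * m⁻¹ = v := by
  obtain ⟨S, hS⟩ := E.syl
  exact fuse_of_wc S (E.two _) (fun a ha => (E.ab1 ha).2) (fun x hx => E.wc1 x (hS ▸ hx)) hu hv h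

theorem fuse2 (E : EmT g) {u v : G} (hu : u ∈ sub g mU2) (hv : v ∈ sub g mU2) (h : IsConj u v) :
    ∃ m ∈ normalizer (sub g mU2 : Set G), m * u * m⁻¹ = v := by
  obtain ⟨S, hS⟩ := E.syl
  exact fuse_of_wc S (E.two _) (fun a ha => (E.ab2 ha).2) (fun x hx => E.wc2 x (hS ▸ hx)) hu hv h

theorem cnt_conj (E : EmT g) {m : ℕ} (hm : Closed m ∧ m ||| mT = mT) {n : G}
    (hn : n ∈ normalizer (sub g m : Set G)) {p q : ℕ → Bool}
    (h : ∀ a b, inM m a = true → inM m b = true → n * g a * n⁻¹ = g b → (p a = true ↔ q b = true)) :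
    cntM m p = cntM m q := by
  rw [← E.ncard hm, ← E.ncard hm, ← Set.ncard_image_of_injective _ (MulAut.conj n).injective]
  congr 1
  ext x
  constructor
  · rintro ⟨_, ⟨a, h1, h2, rfl⟩, rfl⟩
    obtain ⟨b, h3, h4⟩ := (E.mem_T hm).1 (norm_conj hn ((E.mem_T hm).2 ⟨a, h1, rfl⟩))
    exact ⟨b, h3, (h a b h1 h3 h4).1 h2, h4⟩
  · rintro ⟨b, h1, h2, rfl⟩
    obtain ⟨a, h3, h4⟩ := (E.mem_T hm).1 (norm_conj' hn ((E.mem_T hm).2 ⟨b, h1, rfl⟩))
    have h5 : n * g a * n⁻¹ = g b := by rw [← h4]; group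
    exact ⟨_, ⟨a, h3, (h a b h3 h1 h5).2 h2, rfl⟩, h5⟩

theorem prs_conj (E : EmT g) {m X : ℕ} (hm : Closed m ∧ m ||| mT = mT)
    (hd : ∀ {a}, inM m a = true → (dd X a = true ↔ Dz g (g a))) {n : G}
    (hn : n ∈ normalizer (sub g m : Set G)) {u v : ℕ} (hu : inM m u = true) (hv : inM m v = true)
    (e : n * g u * n⁻¹ = g v) : prs m X u = prs m X v := by
  have k : ∀ {a}, inM m a = true → inM mT a = true := fun h => inM_mono h hm.2
  simp only [prs, frc]
  refine E.cnt_conj hm hn fun a b ha hb h => ?_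
  rw [band_eq_true, band_eq_true, hd ha, hd hb, hd (inM_mul hm.1 hu ha), hd (inM_mul hm.1 hv hb),
    E.mul (k hu) (k ha), E.mul (k hv) (k hb), ← h, ← e, conj_mul, dz_conj, dz_conj]

theorem prs2_conj (E : EmT g) {m X : ℕ} (hm : Closed m ∧ m ||| mT = mT)
    (hd : ∀ {a}, inM m a = true → (dd X a = true ↔ Dz g (g a))) {n : G}
    (hn : n ∈ normalizer (sub g m : Set G)) {u v u' v' : ℕ} (hu : inM m u = true) (hv : inM m v = true)
    (hu' : inM m u' = true) (hv' : inM m v' = true) (e : n * g u * n⁻¹ = g u')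
    (e' : n * g v * n⁻¹ = g v') : prs2 m X u v = prs2 m X u' v' := by
  have k : ∀ {a}, inM m a = true → inM mT a = true := fun h => inM_mono h hm.2
  unfold prs2
  simp only [frc]
  refine E.cnt_conj hm hn fun a b ha hb h => ?_
  simp only [band_eq_true]
  rw [hd ha, hd hb, hd (inM_mul hm.1 hu ha), hd (inM_mul hm.1 hv ha), hd (inM_mul hm.1 hu' hb),
    hd (inM_mul hm.1 hv' hb), E.mul (k hu) (k ha), E.mul (k hv) (k ha), E.mul (k hu') (k hb),
    E.mul (k hv') (k hb), ← h, ← e, ← e', conj_mul, conj_mul, dz_conj, dz_conj, dz_conj]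

end EmT

end H49.He
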