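import Cfsg.Agent.Lib.Held.T1
import Cfsg.Agent.Lib.LocStruct.ParChar

/-!
# Sylow 2-subgroup `UT₅(2)`: a consequence of Thompson's transfer lemma (helper49)
-/

set_option autoImplicit false

namespace H49.He

open H54 (force sel band bor bimp force_eq band_eq_true bor_eq_true bimp_eq_true allL allL_iff
  anyL anyL_iff allLt allLt_iff tb tb_eq)
open Subgroup

/-- the centraliser of `e03` in `T` -/ def mP : ℕ := nat_lit 0x639e

theorem rt_chk : allM mT (fun b => bimp (sq1 b) (bimp (Nat.ble 24 (cntM mT fun a => Nat.beq (a ⋆ a) b))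
    (anyL (Nat.beq b) [I5, z0, e03, e03 ⋆ z0, e14, e14 ⋆ z0]))) = true := by decide +kernel

theorem row_chk : allM mU1 (fun u => allM mU2 fun v => force (u ⋆ v) fun x => bimp (Nat.beq (x ⋆ x) z0)
    (allM mU2 fun w => force (u ⋆ w) fun y => anyL (Nat.beq (y ⋆ y)) [I5, z0, e03, e03 ⋆ z0])) = true := by
  decide +kernel

theorem P_chk : allM mP (fun a => band (cm a e03) (band (bimp (cm a e14) (inM mJ a))
    (bimp (cm a (e14 ⋆ z0)) (inM mJ a)))) = true := by decide +kernel

theorem J_chk : allM mE (fun e => allM mJ (cm e)) = true := by decide +kernel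

theorem flpT {a : ℕ} (h : inM mT a = true) : inM mT (flp a) = true :=
  (show flp mT = mT by decide +kernel) ▸ inM_flp (by decide) h

variable {G : Type*} [Group G] [Finite G] {g : ℕ → G}

namespace EmT

omit [Finite G] in
theorem flp (E : EmT g) : EmT fun a => (g (flp a))⁻¹ where
  mul ha hb := by rw [flp_mul, E.mul (flpT hb) (flpT ha), mul_inv_rev]
  inj {a b} ha hb h := by
    rw [← flp_flp (inM_lt (by decide) ha), E.inj (flpT ha) (flpT hb)
      (inv_injective h), flp_flp (inM_lt (by decide) hb)]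
  syl := by
    obtain ⟨S, hS⟩ := E.syl
    refine ⟨S, hS.trans (le_antisymm ((closure_le _).2 ?_) ((closure_le _).2 ?_))⟩
    · rintro _ ⟨a, -, ha, rfl⟩
      have := inv_mem (memT (g := fun a => (g (He.flp a))⁻¹) (m := mT) (flpT ha))
      rwa [inv_inv, flp_flp (inM_lt (by decide) ha)] at this
    · rintro _ ⟨a, -, ha, rfl⟩
      exact inv_mem (memT (m := mT) (flpT ha))

/-- normalising both `U₁` and `U₂` -/
theorem normE (E : EmT g) {n : G} (n1 : n ∈ normalizer (sub g mU1 : Set G))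
    (n2 : n ∈ normalizer (sub g mU2 : Set G)) {s : ℕ} (hs : inM mE s = true) :
    ∃ a, inM mE a = true ∧ n * g s * n⁻¹ = g a := by
  obtain ⟨a, ha, e⟩ := E.mem_T.1 (norm_conj n1 (memT (m := mU1) (inM_mono hs rfl)))
  exact ⟨a, inM_and (m' := mU2) ha ((E.mem_iff (inM_mono ha rfl)).1
    (e ▸ norm_conj n2 (memT (m := mU2) (inM_mono hs rfl)))), e⟩

theorem extremal' (E : EmT g) {b : ℕ} (hb : inM mE b = true) (h : Dz g (g b)) :
    ∃ n ∈ normalizer (sub g mU1 : Set G), n ∈ normalizer (sub g mU2 : Set G) ∧ n * g b * n⁻¹ = g z0 := by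
  obtain ⟨n, h1, h2⟩ := E.extremal h
  exact ⟨n, E.wc1 n fun u hu => h2 u (sub_mono g (m' := mT) (by decide) hu)
      ((E.ab1 hu).2 _ (memT (inM_mono hb rfl))), E.wc2 n fun u hu => h2 u (sub_mono g (m' := mT) (by decide) hu)
      ((E.ab2 hu).2 _ (memT (inM_mono hb rfl))), h1⟩

theorem move (E : EmT g) (hG : Cfsg.pResidual 2 G = ⊤) :
    ∃ c, c * g z0 = g z0 * c ∧ Commute (c * g e34 * c⁻¹) (g e03) := by
  obtain ⟨S, hS⟩ := E.syl
  have hP : sub g mP ≤ S := hS ▸ sub_mono g
  obtain ⟨w, h1, h2⟩ := H69.exists_extremal_conj_mem hG S hP (by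
      have := H1.card_mul_relIndex_of_le hP
      rw [hS, E.card_T, E.card_sub, show cntM mP (fun _ => true) = 512 by decide +kernel] at this
      rw [hS]; omega) (x := g e34) (H9.orderOf_eq_two_of_mul_self E.ne_one (E.one ▸ E.mul_eq))
    (T := sub g mT ⊓ centralizer {g e34}) (E.two mT).to_inf_left inf_le_right
  have h3 : ∀ {a}, inM mT a = true → He.cm a e34 = true → w⁻¹ * g a * w ∈ sub g mT := fun ha h =>
    hS ▸ mem_cs.1 (h2 ⟨memT ha, mem_centralizer_singleton_iff.2 ((E.cm ha (by decide +kernel)).1 h)⟩)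
  obtain ⟨b, hb, eb⟩ := E.mem_T.1 (h3 zT (by decide +kernel))
  obtain ⟨a, ha, ea⟩ := E.mem_T.1 h1
  have aT : inM mT a = true := inM_mono ha rfl
  have hd : Dz g (g b) := by simpa [← eb] using (dz_z g).conj w⁻¹
  have ab : g a * g b = g b * g a := by
    have := E.comm_z (a := e34) (by decide +kernel)
    rw [← ea, ← eb]
    calc _ = w⁻¹ * (g e34 * g z0) * w := by group
      _ = _ := by rw [this]; group
  have q := allM_spec rt_chk (by decide) hb
  have p := allM_spec P_chk (by decide) ha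
  simp only [bimp_eq_true, anyL_iff, Nat.beq_eq, Nat.ble_eq, List.mem_cons, List.not_mem_nil, or_false,
    exists_eq_right', band_eq_true] at q p
  have fin : ∀ {n : G}, n * g b * n⁻¹ = g z0 → Commute (n * g a * n⁻¹) (g e03) →
      ∃ c, c * g z0 = g z0 * c ∧ Commute (c * g e34 * c⁻¹) (g e03) := fun {n} h h' =>
    ⟨n * w⁻¹, by nth_rewrite 2 [← h]; rw [← eb]; group, by convert h' using 1; rw [← ea]; group⟩
  have k1 : inM mE b = true → inM mJ a = true →
      ∃ c, c * g z0 = g z0 * c ∧ Commute (c * g e34 * c⁻¹) (g e03) := fun h h' => by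
    obtain ⟨n, n1, n2, e⟩ := E.extremal' h hd
    obtain ⟨c, hc, e'⟩ := E.normE (inv_mem n1) (inv_mem n2) (s := e03) (by decide +kernel)
    have := (E.cm (inM_mono hc rfl) aT).1 (allM_spec (allM_spec J_chk (by decide) hc) (by decide) h')
    refine fin e ?_
    show _ * _ = _ * _
    calc _ = n * (g a * (n⁻¹ * g e03 * n⁻¹⁻¹)) * n⁻¹ := by group
      _ = _ := by rw [e', ← this, ← e']; group
  have k2 : ∀ v, inM mE b = true → b ≠ z0 → inM mU2 v = true → g e02 * g v * (g e02 * g v) = g b →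
      ∃ c, c * g z0 = g z0 * c ∧ Commute (c * g e34 * c⁻¹) (g e03) := fun v h h' hv ev => by
    obtain ⟨n, n1, n2, e⟩ := E.extremal' h hd
    obtain ⟨u, hu, eu⟩ := E.mem_T.1 (norm_conj n1 (memT (a := e02)))
    obtain ⟨v1, hv1, e1⟩ := E.mem_T.1 (norm_conj n2 (memT hv))
    obtain ⟨v2, hv2, e2⟩ := E.mem_T.1 (norm_conj n2 (memT (a := e24)))
    have uT : inM mT u = true := inM_mono hu rfl
    have m1 := mulT uT (inM_mono (m' := mT) hv1 rfl)
    have m2 := mulT uT (inM_mono (m' := mT) hv2 rfl)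
    have r := allM_spec (allM_spec row_chk (by decide) hu) (by decide) hv1
    rw [frc, bimp_eq_true, Nat.beq_eq] at r
    have r2 := allM_spec (r (E.inj (mulT m1 m1) zT (by
      rw [E.mul m1 m1, E.mul uT (inM_mono hv1 rfl), ← eu, ← e1, conj_mul, conj_mul, ev, e]))) (by decide) hv2
    have e3 : g (u ⋆ v2 ⋆ (u ⋆ v2)) = n * g z0 * n⁻¹ := by
      rw [E.mul m2 m2, E.mul uT (inM_mono hv2 rfl), ← eu, ← e2, conj_mul, conj_mul,
        E.mul_eq (c := e02 ⋆ e24), E.mul_eq (c := z0)]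
    have c1 : Commute (n * g a * n⁻¹) (n * g z0 * n⁻¹) := by
      show _ * _ = _ * _
      rw [conj_mul, conj_mul, E.comm_z aT]
    have c2 : Commute (n * g a * n⁻¹) (g z0) := by
      show _ * _ = _ * _
      rw [← e, conj_mul, conj_mul, ab]
    simp only [frc, anyL_iff, Nat.beq_eq, List.mem_cons, List.not_mem_nil, or_false, exists_eq_right'] at r2
    refine fin e ?_
    rcases r2 with r2 | r2 | r2 | r2 <;> rw [r2] at e3
    · exact absurd (conj_eq_one_iff.1 (e3.symm.trans E.one)) E.ne_one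
    · rw [← e, mul_left_inj, mul_right_inj, e] at e3
      exact absurd (E.inj hb zT e3) h'
    · exact e3 ▸ c1
    · rw [← e3, E.mul (a := e03) (by decide +kernel) zT] at c1
      simpa using c1.mul_right c2.inv_right
  rcases q ((E.sq1 hb).2 (E.dz_sq hd).1) (by
    rw [show 24 = cntM mT fun a => band (He.cm a e34) (Nat.beq (a ⋆ a) z0) by decide +kernel,
      ← E.ncard (by decide), ← E.ncard (by decide)]
    refine Set.ncard_le_ncard_of_injOn (fun x => w⁻¹ * x * w) ?_ fun x _ y _ h => by simpa using h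
    rintro _ ⟨c, hc, h, rfl⟩
    rw [band_eq_true, Nat.beq_eq] at h
    obtain ⟨d, hd, e⟩ := E.mem_T.1 (h3 hc h.1)
    refine ⟨d, hd, Nat.beq_eq ▸ E.inj (mulT hd hd) hb ?_, e⟩
    rw [E.mul hd hd, ← e, ← eb, ← h.2, E.mul hc hc]; group) with h | h | h | h | h | h
  · exact absurd ((E.eq_one hb).2 h) (E.dz_sq hd).2
  · exact fin (n := 1) (by simp [h]) (by
      rw [one_mul, inv_one, mul_one]; exact (E.cm aT (by decide +kernel)).1 p.1)
  · exact k2 e23 (h ▸ by decide +kernel) (h ▸ by decide +kernel) (by decide +kernel) (by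
      rw [h, E.mul_eq (c := e02 ⋆ e23)]; exact E.mul_eq)
  · exact k2 (e23 ⋆ e24) (h ▸ by decide +kernel) (h ▸ by decide +kernel) (by decide +kernel) (by
      rw [h, E.mul_eq (c := e02 ⋆ (e23 ⋆ e24))]; exact E.mul_eq)
  · exact k1 (h ▸ by decide +kernel) (p.2.1 (h ▸ (E.cm aT hb).2 ab))
  · exact k1 (h ▸ by decide +kernel) (p.2.2 (h ▸ (E.cm aT hb).2 ab))

theorem move' (E : EmT g) (hG : Cfsg.pResidual 2 G = ⊤) :
    ∃ c, c * g z0 = g z0 * c ∧ Commute (c * g e01 * c⁻¹) (g e14) := by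
  obtain ⟨c, h1, h2⟩ := E.flp.move hG
  rw [flp_z0, inv_eq_of_mul_eq_one_right E.zz] at h1
  rw [show He.flp e34 = e01 by decide +kernel, show He.flp e03 = e14 by decide +kernel] at h2
  exact ⟨c, h1, by simpa [mul_assoc] using h2.inv_inv⟩

end EmT

end H49.He
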